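import Cfsg.Agent.Lib.Perm.Small.InvolutionCriterion
import Cfsg.Agent.Lib.Char.MTwelveOrder.ElevenTest

/-!
# Simple groups of order dividing 95040 and divisible by eleven: finite checks
-/

set_option autoImplicit false
set_option linter.all false
set_option maxRecDepth 100000
set_option maxHeartbeats 4000000

namespace CfsgLib.Char.MTwelveGraph

open CfsgLib.Perm.PrimeBlock

/-- The parameters outside `skip` admit no degrees at the prime eleven. -/
def onlySkip (g m B : ℕ) (skip : List (ℕ × ℕ)) : Bool :=
  (List.range (m / 11 + 1)).all fun j =>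
    !(decide (0 < j) && (m % (11 * j + 1) == 0)) || [2, 5, 10].all fun e =>
      !((m / (11 * j + 1)) % e == 0) || skip.contains (11 * j + 1, e) ||
        !possible g m 11 e (m / (11 * j + 1) / e) B

theorem only_576 : onlySkip 6336 576 80 [] = true := by decide +kernel

theorem only_864 : onlySkip 9504 864 98 [] = true := by decide +kernel

theorem only_960 : onlySkip 10560 960 103 [] = true := by decide +kernel

theorem only_1728 : onlySkip 19008 1728 138 [] = true := by decide +kernel

theorem refuted_1080 : refutedTwo 11880 1080 11 109 4 [] = true := by decide +kernel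

theorem only_1440 : onlySkip 15840 1440 126 [(12, 5), (144, 5), (144, 10)] = true := by decide +kernel

theorem only_2160 : onlySkip 23760 2160 155 [(12, 5), (144, 5)] = true := by decide +kernel

theorem only_2880 : onlySkip 31680 2880 178 [(12, 5), (12, 10), (144, 5), (144, 10)] = true := by
  decide +kernel

theorem only_4320 : onlySkip 47520 4320 218 [(12, 5), (12, 10), (144, 5), (144, 10)] = true := by
  decide +kernel

/-- The degree lists at eleven. -/
def lists (g m e c B : ℕ) : List (List ℤ) :=
  (combos (cands g m 11 c B) (e - 1)).filter fun l =>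
    okAbs g m (1 + l.sum).natAbs && ((1 + l.sum) % ((11 : ℕ) : ℤ) == (e : ℤ) % ((11 : ℕ) : ℤ))

/-- The principal block alone is too large, unless the exceptional degree is excluded. -/
def tooLarge (g m e c B : ℕ) : Bool :=
  (lists g m e c B).all fun l =>
    decide ((g : ℤ) < 1 + (l.map fun s => s * s).sum + ((10 / e : ℕ) : ℤ) * ((1 + l.sum) * (1 + l.sum))) ||
      (1 + l.sum == 10)

theorem tooLarge_2880 : tooLarge 31680 2880 10 2 178 = true := by decide +kernel

/-- Values at an involution commuting with an element of order five. -/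
def valsT (d : ℕ) (s : ℤ) : List ℤ :=
  (valsFor d s).filter fun S => !(s % 5 == 0) || (S % 5 == 0)

/-- The states of partial assignments. -/
def statesT (d : ℕ) : List ℤ → List (ℤ × ℤ × ℤ)
  | [] => [(1, 1, 1)]
  | s :: r =>
    (((statesT d r).flatMap fun x => (valsT d s).map fun S =>
        (x.1 + S, x.2.1 + S * S, x.2.2 * s + S * S * r.prod)).filter
      fun y => decide (y.2.1 ≤ (d : ℤ))).eraseDups

/-- The admissible centralizer orders. -/
def centT : List ℕ := [10, 20, 30, 40, 60, 80, 90, 110, 120]

/-- One state gives no class constant eleven. -/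
def stateFailsT (D den : ℤ) (x : ℤ × ℤ × ℤ) : Bool :=
  let T : ℤ := x.1
  centT.all fun d => decide ((d : ℤ) < x.2.1 + T * T) ||
    !(15840 * (x.2.2 * D - T * T * den) == 11 * ((d : ℤ) * (d : ℤ)) * (den * D))

/-- All degree lists fail. -/
def allFailT : Bool :=
  (lists 15840 1440 10 1 126).all fun l =>
    decide ((15840 : ℤ) < 1 + (l.map fun s => s * s).sum + ((10 / 10 : ℕ) : ℤ) * ((1 + l.sum) * (1 + l.sum))) ||
      (statesT 120 l).all (stateFailsT (1 + l.sum) l.prod)

theorem allFailT_true : allFailT = true := by decide +kernel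

theorem valsT_spec {d : ℕ} {s S : ℤ} (h : S ∈ valsFor d s) (h5 : (5 : ℤ) ∣ s → (5 : ℤ) ∣ S) :
    S ∈ valsT d s := by
  simp only [valsT, List.mem_filter, Bool.or_eq_true, Bool.not_eq_true', beq_eq_false_iff_ne, beq_iff_eq]
  refine ⟨h, ?_⟩
  by_cases hs : s % 5 = 0
  · exact Or.inr (Int.emod_eq_zero_of_dvd (h5 (Int.dvd_of_emod_eq_zero hs)))
  · exact Or.inl hs

theorem mem_statesT {ι : Type*} (f v : ι → ℤ) (d : ℕ) :
    ∀ (X : List ι), (∀ a ∈ X, v a ∈ valsT d (f a)) →
      1 + ((X.map fun a => (f a, v a)).map fun x => x.2 * x.2).sum ≤ (d : ℤ) →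
      (1 + ((X.map fun a => (f a, v a)).map Prod.snd).sum,
        1 + ((X.map fun a => (f a, v a)).map fun x => x.2 * x.2).sum,
        (fracSum (X.map fun a => (f a, v a))).1) ∈ statesT d (X.map f) := by
  intro X
  induction X with
  | nil => intro _ _; simp [statesT, fracSum]
  | cons a X ih =>
    intro hv hq
    simp only [List.map_cons, List.sum_cons] at hq ⊢
    have ih' := ih (fun b hb => hv b (List.mem_cons_of_mem _ hb)) (by nlinarith [mul_self_nonneg (v a)])
    simp only [statesT, List.mem_eraseDups, List.mem_filter, List.mem_flatMap, List.mem_map, decide_eq_true_eq]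
    refine ⟨⟨_, ih', v a, hv a List.mem_cons_self, ?_⟩, by linarith⟩
    simp only [fracSum, CfsgLib.Char.MTwelveOrder.fracSum_snd, List.map_map, Function.comp_def, Prod.mk.injEq]
    refine ⟨by ring, by ring, trivial⟩

end CfsgLib.Char.MTwelveGraph
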