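import Cfsg.Agent.Lib.Char.MTwelveOrder.Eleven
import Cfsg.Agent.Lib.Char.MTwelveGraph.Tests

/-!
# Degree bounds from the principal block
-/

set_option autoImplicit false
set_option linter.all false

open Cfsg CfsgLib.Perm.PrimeBlock CfsgLib.Block Finset CfsgLib.Char.MEleven.Order CfsgLib.Char.MTwelveOrder

namespace CfsgLib.Char.MTwelveGraph

universe u

variable {G : Type u} [Group G] [Finite G] [Fintype G]

/-- The squares of the degrees in the principal block add up to at most the order. -/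
theorem block_sum_sq_le {p e : ℕ} [Fact p.Prime] {P : Subgroup G} (S : Shape p e P)
    (hep : e ∣ p - 1) (he : 1 ≤ e) {X' : List (IrrCharacter G)} (hX' : List.Perm X' S.X.toList) :
    1 + ((X'.map (sd S)).map fun s => s * s).sum +
      (((p - 1) / e : ℕ) : ℤ) * ((1 + (X'.map (sd S)).sum) * (1 + (X'.map (sd S)).sum)) ≤
        (Nat.card G : ℤ) := by
  classical
  obtain ⟨θ, hθ⟩ := nonempty_Y S hep he
  have hiv : ∀ χ : IrrCharacter G, iv χ (1 : G) = (dg χ : ℤ) := fun χ => iv_eq (by simp [val_one])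
  have h := sum_iv_sq_le ({oneChar G} ∪ S.X ∪ S.Y) (g := (1 : G))
    (fun χ _ => by rw [hiv, val_one]; simp)
  rw [Finset.sum_union (Finset.disjoint_union_left.2
      ⟨Finset.disjoint_singleton_left.2 S.one_notMem_Y, S.disjoint⟩),
    Finset.sum_union (Finset.disjoint_singleton_left.2 S.one_notMem_X), Finset.sum_singleton,
    iv_oneChar, Finset.sum_congr rfl (s₁ := S.X) (g := fun χ => sd S χ * sd S χ) (fun χ hχ => by
      rw [hiv]; simp only [sd]; rcases S.sign_X χ hχ with hs | hs <;> rw [hs] <;> ring),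
    Finset.sum_congr rfl (s₁ := S.Y) (g := fun _ => (S.ε * (S.D : ℤ)) * (S.ε * (S.D : ℤ))) (fun χ hχ => by
      rw [hiv, show dg χ = S.D from S.degree_Y χ hχ]
      rcases S.sign with hs | hs <;> rw [hs] <;> ring),
    Finset.sum_const, S.card_Y, nsmul_eq_mul] at h
  have hc1 : Nat.card (Subgroup.centralizer ({(1 : G)} : Set G)) = Nat.card G := by
    rw [show Subgroup.centralizer ({(1 : G)} : Set G) = ⊤ from
      eq_top_iff.2 fun g _ => Subgroup.mem_centralizer_singleton_iff.2 (by simp), Subgroup.card_top]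
  rw [hc1] at h
  have hsum : (X'.map (sd S)).sum = ∑ χ ∈ S.X, sd S χ := by
    rw [(hX'.map _).sum_eq, Finset.sum_map_toList]
  have hsq : ((X'.map (sd S)).map fun s => s * s).sum = ∑ χ ∈ S.X, sd S χ * sd S χ := by
    rw [List.map_map, (hX'.map _).sum_eq, Finset.sum_map_toList]
    rfl
  have hrel : S.ε * (S.D : ℤ) = 1 + ∑ χ ∈ S.X, sd S χ := by
    have h0 := S.relation θ hθ 1 (by rw [orderOf_one]; exact (Fact.out : p.Prime).not_dvd_one)
    simp only [val_one, show dg θ = S.D from S.degree_Y θ hθ] at h0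
    simp only [sd]
    exact_mod_cast h0
  rw [hsum, hsq, ← hrel]
  linarith

variable [IsSimpleGroup G]

/-- An automiser of order ten with centralizer of order twenty-two: order 31680 does not occur. -/
theorem false_2880_ten (hG : ¬ IsMulCommutative G) (hg : Nat.card G = 31680) {P : Sylow 11 G}
    (hP : Nat.card (P : Subgroup G) = 11)
    (hC : Nat.card (Subgroup.centralizer ((P : Subgroup G) : Set G)) = 11 * 2)
    (S : Shape 11 10 (P : Subgroup G)) : False := by
  classical
  haveI : Fact (Nat.Prime 11) := ⟨by norm_num⟩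
  obtain ⟨X', hperm, hmem⟩ := exists_degList hG S hP (m := 2880) (B := 178) (by rw [hg]) (by norm_num)
    (by norm_num) hC (by norm_num) (by rw [hg]; norm_num)
  have hle := block_sum_sq_le S (by norm_num) (by norm_num) hperm
  rw [hg] at hmem hle
  have hall := List.all_eq_true.1 tooLarge_2880 _ hmem
  simp only [Bool.or_eq_true, decide_eq_true_eq, beq_iff_eq] at hall
  rcases hall with hlt | hD
  · norm_num at hle hlt
    linarith
  obtain ⟨θ, hθ⟩ := nonempty_Y S (by norm_num) (by norm_num)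
  have hεD : S.ε * (S.D : ℤ) = 10 := by
    rw [rel_one S hθ, ← Finset.sum_map_toList, ← (hperm.map _).sum_eq, hD]
  have hε : S.ε = 1 ∧ S.D = 10 := by
    rcases S.sign with hs | hs <;> rw [hs] at hεD <;> constructor <;> omega
  have hY : S.Y = {θ} := by
    obtain ⟨a, ha⟩ := Finset.card_eq_one.1 (show S.Y.card = 1 by rw [S.card_Y])
    rw [ha] at hθ ⊢
    rw [Finset.mem_singleton.1 hθ]
  obtain ⟨y, hyC, hyr, hy1⟩ := exists_regular_ne (G := G) hC (by norm_num) (by norm_num)
  obtain ⟨x', hx'⟩ := exists_prime_orderOf_dvd_card' (G := (P : Subgroup G)) 11 (by rw [hP])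
  have hxo : orderOf (x' : G) = 11 := by rw [Subgroup.orderOf_coe, hx']
  have hθ1 : (θ : G → ℂ) ≠ fun _ => 1 := fun h =>
    S.one_notMem_Y ((Subtype.ext h : θ = oneChar G) ▸ hθ)
  refine hy1 (CfsgLib.Perm.PrimeBlock.eq_one_of_value θ hθ1 ?_)
  have hd : (θ : G → ℂ) 1 = ((10 : ℕ) : ℂ) := by
    rw [val_one, show dg θ = S.D from S.degree_Y θ hθ, hε.2]
  rw [hd]
  refine eq_degree_of_const (CfsgLib.Char.isCharacter_irr θ) (lin_eq_one hG) (by norm_num : Nat.Prime 11) hxo
    (Subgroup.mem_centralizer_iff.1 hyC _ x'.2) hyr (c := -1) (fun j k hj => ?_) hd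
    (Or.inr ⟨rfl, Or.inl rfl⟩)
  have h := S.value_Y _ (pow_mem x'.2 j) (fun hh => hj (hxo ▸ orderOf_dvd_of_pow_eq_one hh)) _
    (pow_mem hyC k) (fun hh => hyr (hh.trans (orderOf_pow_dvd k)))
  rw [hY, Finset.sum_singleton, hε.1] at h
  exact_mod_cast h

end CfsgLib.Char.MTwelveGraph
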