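import Cfsg.Agent.Lib.Char.MTwelveGraph.Ten
import Cfsg.Agent.Lib.Char.SmallGraph.Orders

/-!
# The orders of simple groups dividing 95040 and divisible by eleven
-/

set_option autoImplicit false
set_option linter.all false

open Cfsg CfsgLib.Perm.PrimeBlock CfsgLib.Block Finset CfsgLib.Char.MEleven.Order CfsgLib.Char.MTwelveOrder

namespace CfsgLib.Char.MTwelveGraph

universe u

theorem divisors_cofactor : ∀ k < 16, 0 < k → 8640 % k = 0 →
    8640 / k ∈ [576, 720, 864, 960, 1080, 1440, 1728, 2160, 2880, 4320, 8640] := by decide +kernel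

theorem divisors_big {m : ℕ} (hm : m ∣ 8640) (h : 546 ≤ m) :
    m ∈ [576, 720, 864, 960, 1080, 1440, 1728, 2160, 2880, 4320, 8640] := by
  obtain ⟨k, hk⟩ := hm
  have hk0 : 0 < k := Nat.pos_of_ne_zero fun h0 => by simp [h0] at hk
  have h16 : k < 16 := by nlinarith
  have := divisors_cofactor k h16 hk0 (Nat.mod_eq_zero_of_dvd ⟨m, hk.trans (mul_comm m k)⟩)
  rwa [show 8640 / k = m by rw [hk, Nat.mul_div_cancel _ hk0]] at this

theorem small_case : ∀ t ∈ CfsgLib.Char.SmallGraph.simpleOrders, 95040 % t = 0 → t % 11 = 0 → t = 660 := by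
  decide +kernel

variable {G : Type u} [Group G] [Finite G] [IsSimpleGroup G] [Fintype G]

/-- The parameters at eleven come from the list of exceptions. -/
theorem params (hG : ¬ IsMulCommutative G) {g m B : ℕ} {skip : List (ℕ × ℕ)}
    (hskip : onlySkip g m B skip = true) (hg : Nat.card G = g) (hgm : g = m * 11) (hm : ¬ 11 ∣ m)
    (hB : g ≤ B * B) :
    ∃ (P : Sylow 11 G) (n e c : ℕ), (n, e) ∈ skip ∧ n * (e * c) = m ∧ Nat.card (P : Subgroup G) = 11 ∧
      Nat.card (Subgroup.centralizer ((P : Subgroup G) : Set G)) = 11 * c ∧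
      Nat.card (Subgroup.normalizer ((P : Subgroup G) : Set G)) = e * (11 * c) ∧
      n = Nat.card (Sylow 11 G) ∧ Nonempty (Shape 11 e (P : Subgroup G)) := by
  classical
  haveI : Fact (Nat.Prime 11) := ⟨by norm_num⟩
  obtain ⟨P, n, e, c, hP, hn, hn1, hn2, -, he2, hep, hC, hN, hnc, ⟨S⟩⟩ :=
    exists_data hG 11 m (by norm_num) (hg.trans hgm) hm
  refine ⟨P, n, e, c, ?_, hn, hP, hC, hN, hnc, ⟨S⟩⟩
  have hposs := S.possible_eq hG hP (m := m) (B := B) (hg.trans hgm) hep he2 hC
    (fun hc => hm (hn ▸ hc.trans ((dvd_mul_left c e).trans (dvd_mul_left _ n)))) (hg ▸ hB)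
  have hel : e ∈ [2, 5, 10] := by
    have := Nat.le_of_dvd (by norm_num) hep
    interval_cases e <;> simp_all
  have hn' : n = 11 * (n / 11) + 1 := by omega
  have hmn : m / n = e * c := by rw [← hn, Nat.mul_div_cancel_left _ (by omega)]
  have hnm : n ≤ m := Nat.le_of_dvd (Nat.pos_of_ne_zero fun h => hm (h ▸ dvd_zero 11)) ⟨_, hn.symm⟩
  have h := List.all_eq_true.1 hskip (n / 11) (List.mem_range.2 (by omega))
  rw [← hn'] at h
  have hb : (decide (0 < n / 11) && (m % n == 0)) = true := by
    simp only [Bool.and_eq_true, decide_eq_true_eq, beq_iff_eq]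
    exact ⟨by omega, Nat.mod_eq_zero_of_dvd ⟨_, hn.symm⟩⟩
  rw [hb, Bool.not_true, Bool.false_or] at h
  have h2 := List.all_eq_true.1 h e hel
  simp only [Bool.or_eq_true, Bool.not_eq_true', beq_eq_false_iff_ne, ne_eq, List.contains_iff_mem] at h2
  rcases h2 with (h2 | h2) | h2
  · exact absurd (by rw [hmn]; exact Nat.mul_mod_right e c) h2
  · exact h2
  · rw [hmn, Nat.mul_div_cancel_left _ (by omega), ← hg, hposs] at h2
    exact absurd h2 (by decide)

/-- Twelve Sylow subgroups force a self-centralizing one. -/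
theorem false_twelve (hG : ¬ IsMulCommutative G) {P : Sylow 11 G} (hP : Nat.card (P : Subgroup G) = 11)
    (hn : Nat.card (Sylow 11 G) = 12) {c : ℕ} (hc : 1 < c)
    (hC : Nat.card (Subgroup.centralizer ((P : Subgroup G) : Set G)) = 11 * c) : False := by
  classical
  haveI : Fact (Nat.Prime 11) := ⟨by norm_num⟩
  obtain ⟨x', hx'⟩ := exists_prime_orderOf_dvd_card' (G := (P : Subgroup G)) 11 (by rw [hP])
  have hxo : orderOf (x' : G) = 11 := by rw [Subgroup.orderOf_coe, hx']
  obtain ⟨Q, R, hQR⟩ := (Finite.one_lt_card_iff_nontrivial.1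
    (show 1 < Nat.card (Sylow 11 G) by omega)).exists_pair_ne
  obtain ⟨g, hg⟩ := MulAction.exists_smul_eq G Q R
  have hle := cent_le_of_index_twelve hG (α := Sylow 11 G) hn
    ⟨g, Q, fun h => hQR (h.symm.trans hg)⟩ hxo
  rw [centralizer_of_order hP hxo, hC] at hle
  omega

/-- A simple group of order dividing 95040 and divisible by eleven has one of three orders. -/
theorem simple_order_cases (hG : ¬ IsMulCommutative G) (hd : Nat.card G ∣ 95040) (h11 : 11 ∣ Nat.card G) :
    Nat.card G = 660 ∨ Nat.card G = 7920 ∨ Nat.card G = 95040 := by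
  classical
  haveI : Fact (Nat.Prime 11) := ⟨by norm_num⟩
  haveI : Fact (Nat.Prime 2) := ⟨Nat.prime_two⟩
  haveI : Fact (Nat.Prime 3) := ⟨Nat.prime_three⟩
  rcases Nat.lt_or_ge (Nat.card G) 6000 with hlt | hge
  · exact Or.inl (small_case _ (CfsgLib.Char.SmallGraph.simple_card_mem hG hlt) (Nat.mod_eq_zero_of_dvd hd)
      (Nat.mod_eq_zero_of_dvd h11))
  obtain ⟨m, hm⟩ := h11
  have hmd : m ∣ 8640 := Nat.dvd_of_mul_dvd_mul_left (show 0 < 11 by norm_num) (hm ▸ hd)
  have hmem := divisors_big hmd (by omega)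
  simp only [List.mem_cons, List.not_mem_nil, or_false] at hmem
  have hsq : ∀ {g : ℕ}, Nat.card G = g → g ∣ 95040 → ¬ 11 ^ 2 ∣ Nat.card G := fun hg hgd h => by
    have := h.trans (hg ▸ hgd)
    norm_num at this
  rcases hmem with rfl | rfl | rfl | rfl | rfl | rfl | rfl | rfl | rfl | rfl | rfl <;> norm_num [-Nat.card_eq_fintype_card] at hm
  · exfalso
    obtain ⟨P, n, e, c, hs, -⟩ := params hG only_576 hm (by norm_num) (by norm_num) (by norm_num)
    exact absurd hs (by simp)
  · exact Or.inr (Or.inl hm)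
  · exfalso
    obtain ⟨P, n, e, c, hs, -⟩ := params hG only_864 hm (by norm_num) (by norm_num) (by norm_num)
    exact absurd hs (by simp)
  · exfalso
    obtain ⟨P, n, e, c, hs, -⟩ := params hG only_960 hm (by norm_num) (by norm_num) (by norm_num)
    exact absurd hs (by simp)
  · exfalso
    exact card_ne_of_refutedTwo 11880 11 1080 109 4 (by norm_num) (by norm_num) (by norm_num) (by norm_num)
      (by norm_num) (by norm_num) ⟨2, rfl⟩ (by norm_num) refuted_1080 hm
  · exfalso
    obtain ⟨P, n, e, c, hs, hn, hP, hC, hN, hnc, ⟨S⟩⟩ :=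
      params hG only_1440 hm (by norm_num) (by norm_num) (by norm_num)
    simp only [List.mem_cons, Prod.mk.injEq, List.not_mem_nil, or_false] at hs
    rcases hs with ⟨rfl, rfl⟩ | ⟨rfl, rfl⟩ | ⟨rfl, rfl⟩
    · exact false_twelve hG hP hnc.symm (show 1 < c by omega) hC
    · obtain rfl : c = 2 := by omega
      exact false_144 hG hP hnc.symm hC hN (r := 2) (a := 5) (by norm_num) (dvd_refl 2)
        (by rw [hm]; norm_num) (by norm_num)
        (norm_of_small (hsq hm (by norm_num)) hP hC Nat.prime_two (by norm_num) (Or.inl rfl))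
    · obtain rfl : c = 1 := by omega
      exact false_1440_ten hG hm hP hnc.symm hC hN
  · exfalso
    obtain ⟨P, n, e, c, hs, -⟩ := params hG only_1728 hm (by norm_num) (by norm_num) (by norm_num)
    exact absurd hs (by simp)
  · exfalso
    obtain ⟨P, n, e, c, hs, hn, hP, hC, hN, hnc, ⟨S⟩⟩ :=
      params hG only_2160 hm (by norm_num) (by norm_num) (by norm_num)
    simp only [List.mem_cons, Prod.mk.injEq, List.not_mem_nil, or_false] at hs
    rcases hs with ⟨rfl, rfl⟩ | ⟨rfl, rfl⟩
    · exact false_twelve hG hP hnc.symm (show 1 < c by omega) hC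
    · obtain rfl : c = 3 := by omega
      exact false_144 hG hP hnc.symm hC hN (r := 3) (a := 3) (by norm_num) (dvd_refl 3)
        (by rw [hm]; norm_num) (by norm_num)
        (norm_of_small (hsq hm (by norm_num)) hP hC Nat.prime_three (by norm_num) (Or.inl rfl))
  · exfalso
    obtain ⟨P, n, e, c, hs, hn, hP, hC, hN, hnc, ⟨S⟩⟩ :=
      params hG only_2880 hm (by norm_num) (by norm_num) (by norm_num)
    simp only [List.mem_cons, Prod.mk.injEq, List.not_mem_nil, or_false] at hs
    rcases hs with ⟨rfl, rfl⟩ | ⟨rfl, rfl⟩ | ⟨rfl, rfl⟩ | ⟨rfl, rfl⟩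
    · exact false_twelve hG hP hnc.symm (show 1 < c by omega) hC
    · exact false_twelve hG hP hnc.symm (show 1 < c by omega) hC
    · obtain rfl : c = 4 := by omega
      exact false_144 hG hP hnc.symm hC hN (r := 2) (a := 6) (by norm_num) (by norm_num)
        (by rw [hm]; norm_num) (by norm_num) (norm_of_four (hsq hm (by norm_num)) hP hC hN)
    · obtain rfl : c = 2 := by omega
      exact false_2880_ten hG hm hP hC S
  · exfalso
    obtain ⟨P, n, e, c, hs, hn, hP, hC, hN, hnc, ⟨S⟩⟩ :=
      params hG only_4320 hm (by norm_num) (by norm_num) (by norm_num)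
    simp only [List.mem_cons, Prod.mk.injEq, List.not_mem_nil, or_false] at hs
    rcases hs with ⟨rfl, rfl⟩ | ⟨rfl, rfl⟩ | ⟨rfl, rfl⟩ | ⟨rfl, rfl⟩
    · exact false_twelve hG hP hnc.symm (show 1 < c by omega) hC
    · exact false_twelve hG hP hnc.symm (show 1 < c by omega) hC
    · obtain rfl : c = 6 := by omega
      exact false_144 hG hP hnc.symm hC hN (r := 3) (a := 3) (by norm_num) (by norm_num)
        (by rw [hm]; norm_num) (by norm_num)
        (norm_of_small (hsq hm (by norm_num)) hP hC Nat.prime_three (by norm_num)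
          (Or.inr ⟨rfl, by decide⟩))
    · obtain rfl : c = 3 := by omega
      exact false_144 hG hP hnc.symm hC hN (r := 3) (a := 3) (by norm_num) (dvd_refl 3)
        (by rw [hm]; norm_num) (by norm_num)
        (norm_of_small (hsq hm (by norm_num)) hP hC Nat.prime_three (by norm_num) (Or.inl rfl))
  · exact Or.inr (Or.inr hm)

end CfsgLib.Char.MTwelveGraph
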