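import Cfsg.Agent.Lib.Char.MTwelveGraph.Reduce
import Cfsg.Agent.Lib.Char.MTwelveGraph.Orders
import Cfsg.Agent.Lib.Char.MTwelveOrder.LocalModel
import Cfsg.Agent.Lib.Char.MTwelveOrder.FromModel
import Cfsg.Agent.Lib.Char.MEleven.Order.Main
import Cfsg.Agent.Lib.Spor.OuterAut
import Cfsg.Agent.Lib.Spor.Mults.MTwelve.Main
import Cfsg.Agent.Lib.Lie.Mult.M11
import Cfsg.Agent.Lib.Char.Product
import Cfsg.Agent.Lib.Char.Degree
import Cfsg.Agent.Lib.Invol.OrderTwelve
import Cfsg.Agent.S4429

/-!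
# Groups with the order and the degree graph of the Mathieu group of degree twelve
-/

set_option autoImplicit false
set_option linter.all false

open Cfsg CfsgLib.Char.MEleven.Order CfsgLib.Block
open scoped commutatorElement

namespace CfsgLib.Char.MTwelveGraph

universe u

/-- Two degrees of the Mathieu group of degree twelve. -/
theorem m12_degrees : 55 ∈ charDegrees ↥Spor.M12 ∧ 99 ∈ charDegrees ↥Spor.M12 := by
  classical
  haveI := CfsgLib.Spor.Mults.MTwelve.isSimpleGroup_M12
  haveI : Finite ↥Spor.M12 := Nat.finite_of_card_ne_zero (by rw [CfsgLib.Spor.OuterAut.card_M12]; norm_num)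
  haveI := Fintype.ofFinite ↥Spor.M12
  have h := CfsgLib.Spor.OuterAut.card_M12
  obtain ⟨T⟩ := CfsgLib.Char.MTwelveOrder.exists_table (G := ↥Spor.M12) h
  have hcase := T.case.resolve_right (T.not_X h)
  have key : ∀ i ∈ CfsgLib.Char.MTwelveOrder.restM, ((11 : ℤ) * i.1).toNat ∈ charDegrees ↥Spor.M12 := by
    intro i hi
    rw [← hcase, List.mem_map] at hi
    obtain ⟨χ, hχ, rfl⟩ := hi
    refine ⟨χ, ?_⟩
    rw [← (T.B.out_facts (T.cover ▸ List.mem_toFinset.2 hχ) h).1, Int.toNat_natCast]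
    rfl
  exact ⟨key (5, 0, 0, -5) (by decide), key (9, -1, -1, -1) (by decide)⟩

theorem index_dvd_of_card_dvd {G : Type*} [Group G] [Finite G] (C : Subgroup G) {g a b : ℕ}
    (hg : Nat.card G = g) (hab : g = a * b) (ha : 0 < a) (h : a ∣ Nat.card C) : C.index ∣ b := by
  obtain ⟨k, hk⟩ := h
  have h1 := C.card_mul_index
  rw [hk, hg, hab, mul_assoc] at h1
  exact ⟨k, by rw [mul_comm]; exact (Nat.eq_of_mul_eq_mul_left ha h1).symm⟩

variable {G : Type u} [Group G] [Finite G]

/-- The full group is the chief factor when it has the full order. -/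
theorem iso_full (h : Nat.card G = 95040) (D : Chief G) (hT : Nat.card D.T = 95040) :
    Nonempty (G ≃* ↥Spor.M12) := by
  have h1 : Nat.card D.T ∣ Nat.card (G ⧸ D.N) := D.T.card_subgroup_dvd_card
  have h2 := D.card_mul
  rw [h] at h2
  have hq : Nat.card (G ⧸ D.N) ∣ 95040 := ⟨_, h2.symm⟩
  have hq' : Nat.card (G ⧸ D.N) = 95040 := Nat.dvd_antisymm hq (hT ▸ h1)
  rw [hq'] at h2
  have hNbot : D.N = ⊥ := Subgroup.eq_bot_of_card_eq _ (by omega)
  have hTtop : D.T = ⊤ := Subgroup.eq_top_of_card_eq _ (by rw [hT, hq'])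
  let e : G ≃* D.T := ((QuotientGroup.quotientMulEquivOfEq hNbot).trans QuotientGroup.quotientBot).symm.trans
    ((Subgroup.topEquiv).symm.trans (MulEquiv.subgroupCongr hTtop.symm))
  haveI : Nontrivial G := Finite.one_lt_card_iff_nontrivial.1 (by omega)
  haveI : IsSimpleGroup G := IsSimpleGroup.isSimpleGroup_of_surjective e.symm.toMonoidHom e.symm.surjective
  exact CfsgLib.Char.MTwelveOrder.iso_of_models h (fun L => L.exists_model)

/-- The group is a direct product when the chief factor has order 7920. -/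
theorem iso_product (h : Nat.card G = 95040) (D : Chief G) (hT : Nat.card D.T = 7920) :
    Nat.card D.N = 12 ∧ Nonempty (↥D.N × ↥D.T ≃* G) := by
  classical
  haveI := Fintype.ofFinite D.T
  obtain ⟨e⟩ := iso_m11_of_simple hT
  -- inner automorphisms only
  have htop : D.T = ⊤ := by
    refine eq_top_iff.2 fun q _ => ?_
    obtain ⟨m, hm⟩ := CfsgLib.Spor.OuterAut.inner_M11
      ((e.symm.trans (MulAut.conjNormal q : MulAut D.T)).trans e)
    set t : D.T := e.symm m with ht
    have key : ∀ x : D.T, q * (x : G ⧸ D.N) * q⁻¹ = (t : G ⧸ D.N) * x * (t : G ⧸ D.N)⁻¹ := by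
      intro x
      have h1 := congrArg e.symm (DFunLike.congr_fun hm (e x))
      simp only [MulAut.conj_apply, MulEquiv.trans_apply, MulEquiv.symm_apply_apply, map_mul, map_inv] at h1
      rw [← MulAut.conjNormal_apply, ← h1, ht]
      simp
    have hcen : (t : G ⧸ D.N)⁻¹ * q ∈ Subgroup.centralizer (D.T : Set (G ⧸ D.N)) := by
      rw [Subgroup.mem_centralizer_iff]
      intro x hx
      have h1 := key ⟨x, hx⟩
      simp only at h1
      rw [mul_inv_eq_iff_eq_mul] at h1
      rw [mul_assoc _ q x, h1]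
      group
    rw [D.centT, Subgroup.mem_bot, inv_mul_eq_one] at hcen
    exact hcen ▸ t.2
  have hq : Nat.card (G ⧸ D.N) = 7920 := by rw [← Subgroup.card_top (G := G ⧸ D.N), ← htop, hT]
  have hN : Nat.card D.N = 12 := by
    have h2 := D.card_mul
    rw [h, hq] at h2
    omega
  refine ⟨hN, ?_⟩
  -- the derived subgroup of the centralizer
  set τ := D.toT with hτ
  have hsur := D.toT_surjective h
  set W : Subgroup D.C := commutator D.C with hW
  have hWmap : W.map τ = ⊤ := by
    rw [hW, commutator_def, Subgroup.map_commutator, ← MonoidHom.range_eq_map, MonoidHom.range_eq_top.2 hsur,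
      ← commutator_def]
    refine (IsSimpleGroup.eq_bot_or_eq_top_of_normal (commutator D.T) inferInstance).resolve_left fun hb => ?_
    refine D.noncommT ⟨⟨fun a b => ?_⟩⟩
    have hmem := Subgroup.commutator_mem_commutator (Subgroup.mem_top a) (Subgroup.mem_top b)
    rw [← commutator_def, hb, Subgroup.mem_bot] at hmem
    exact commutatorElement_eq_one_iff_mul_comm.1 hmem
  have hdec : ∀ c : D.C, ∃ w ∈ W, ∃ z ∈ Subgroup.center D.C, c = w * z := by
    intro c
    obtain ⟨w, hw, hwc⟩ : τ c ∈ W.map τ := hWmap ▸ Subgroup.mem_top _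
    exact ⟨w, hw, w⁻¹ * c, D.ker_le_center (by
      show τ (w⁻¹ * c) = 1
      rw [map_mul, map_inv, hwc, inv_mul_cancel]), by group⟩
  have hperf : commutator W = ⊤ := by
    have h1 : W ≤ ⁅W, W⁆ := by
      suffices h0 : Subgroup.closure (commutatorSet D.C) ≤ ⁅W, W⁆ from
        fun g hg => h0 (commutator_eq_closure (G := D.C) ▸ (hW ▸ hg : g ∈ commutator D.C))
      rw [Subgroup.closure_le]
      rintro _ ⟨a, b, rfl⟩
      obtain ⟨w, hw, z, hz, rfl⟩ := hdec a
      obtain ⟨w', hw', z', hz', rfl⟩ := hdec b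
      have hcz : ∀ g, g * z = z * g := fun g => Subgroup.mem_center_iff.1 hz g
      have hcz' : ∀ g, g * z' = z' * g := fun g => Subgroup.mem_center_iff.1 hz' g
      have he : ⁅w * z, w' * z'⁆ = ⁅w, w'⁆ := by
        simp only [commutatorElement_def, mul_inv_rev]
        calc w * z * (w' * z') * (z⁻¹ * w⁻¹) * (z'⁻¹ * w'⁻¹)
            = w * (z * (w' * z')) * z⁻¹ * w⁻¹ * z'⁻¹ * w'⁻¹ := by group
          _ = w * w' * (z' * w⁻¹) * z'⁻¹ * w'⁻¹ := by rw [← hcz]; group
          _ = w * w' * w⁻¹ * w'⁻¹ := by rw [← hcz']; group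
      rw [SetLike.mem_coe, he]
      exact Subgroup.commutator_mem_commutator hw hw'
    refine Subgroup.map_injective W.subtype_injective ?_
    rw [commutator_def, Subgroup.map_commutator, ← MonoidHom.range_eq_map, Subgroup.range_subtype]
    exact le_antisymm (Subgroup.commutator_le_self W) h1
  let σ : W →* ↥Spor.M11 := e.toMonoidHom.comp (τ.comp W.subtype)
  have hσsur : Function.Surjective σ := fun m => by
    obtain ⟨w, hw, hwm⟩ : e.symm m ∈ W.map τ := hWmap ▸ Subgroup.mem_top _
    exact ⟨⟨w, hw⟩, by show e (τ w) = m; rw [hwm, e.apply_symm_apply]⟩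
  have hstem : Cfsg.IsStemExtension σ := by
    refine ⟨hσsur, fun w hw => ?_, by rw [hperf]; exact le_top⟩
    have h1 : τ (w : D.C) = 1 := e.map_eq_one_iff.1 hw
    exact Subgroup.mem_center_iff.2 fun v => Subtype.ext (Subgroup.mem_center_iff.1 (D.ker_le_center h1) v)
  have hσker := CfsgLib.Lie.MultM11.m11_stem_ker hstem
  let f : W →* D.T := τ.comp W.subtype
  have hfbij : Function.Bijective f := by
    refine ⟨fun a b hab => ?_, fun t => ?_⟩
    · exact (MonoidHom.ker_eq_bot_iff σ).1 hσker (congrArg e hab)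
    · obtain ⟨w, hw, hwt⟩ : t ∈ W.map τ := hWmap ▸ Subgroup.mem_top _
      exact ⟨⟨w, hw⟩, hwt⟩
  let ι : D.T →* G := (D.C.subtype.comp W.subtype).comp (MulEquiv.ofBijective f hfbij).symm.toMonoidHom
  have hιC : ∀ t, ι t ∈ D.C := fun t => (((MulEquiv.ofBijective f hfbij).symm t : W) : D.C).2
  have hιq : ∀ t, (QuotientGroup.mk (ι t) : G ⧸ D.N) = (t : G ⧸ D.N) := fun t =>
    congrArg Subtype.val ((MulEquiv.ofBijective f hfbij).apply_symm_apply t)
  have hcomm : ∀ (n : D.N) (t : D.T), Commute (D.N.subtype n) (ι t) := fun n t =>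
    Subgroup.mem_centralizer_iff.1 (Subgroup.mem_inf.1 (hιC t)).1 n n.2
  let Φ := MonoidHom.noncommCoprod D.N.subtype ι hcomm
  have hinj : Function.Injective Φ := by
    rw [injective_iff_map_eq_one]
    rintro ⟨n, t⟩ hnt
    have hnt' : (n : G) * ι t = 1 := hnt
    have ht1 : t = 1 := by
      have h1 := congrArg (QuotientGroup.mk : G → G ⧸ D.N) hnt'
      rw [QuotientGroup.mk_mul, QuotientGroup.mk_one, (QuotientGroup.eq_one_iff (n : G)).2 n.2, one_mul, hιq] at h1
      exact Subtype.ext h1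
    subst ht1
    rw [map_one, mul_one] at hnt'
    rw [show n = 1 from Subtype.ext hnt']
    rfl
  exact ⟨MulEquiv.ofBijective Φ (hinj.bijective_of_nat_card_le (by rw [h, Nat.card_prod, hN, hT]))⟩

/-- A group of order twelve with a character of degree three is alternating. -/
theorem iso_alt_four {N : Type u} [Group N] [Finite N] (h : Nat.card N = 12) (θ : IrrCharacter N)
    (hθ : charDegree (θ : N → ℂ) = 3) : Nonempty (N ≃* alternatingGroup (Fin 4)) := by
  haveI : Fact (Nat.Prime 3) := ⟨Nat.prime_three⟩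
  refine CfsgLib.Invol.mulEquiv_alternating_four h fun z hz hzc => ?_
  obtain ⟨y, hy⟩ := exists_prime_orderOf_dvd_card' (G := N) 3 (by rw [h]; norm_num)
  have hc : Commute z y := (Subgroup.mem_center_iff.1 hzc y).symm
  have h6 : orderOf (z * y) = 6 := by
    rw [hc.orderOf_mul_eq_mul_orderOf_of_coprime (by rw [hz, hy]; norm_num), hz, hy]
  have hidx : (Subgroup.zpowers (z * y)).index = 2 := by
    have h1 := (Subgroup.zpowers (z * y)).card_mul_index
    rw [Nat.card_zpowers, h6, h] at h1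
    omega
  have hle := CfsgLib.Char.degree_le_index θ.2 (Subgroup.zpowers (z * y)) (fun a ha b hb => by
    obtain ⟨i, rfl⟩ := Subgroup.mem_zpowers_iff.1 ha
    obtain ⟨j, rfl⟩ := Subgroup.mem_zpowers_iff.1 hb
    exact (Commute.zpow_zpow_self (z * y) i j).eq) (d := 3) (by rw [(charDegree_eq θ).1, hθ])
  omega

theorem degree_dvd_thirtythree {a b : ℕ} (ha : a ^ 2 ≤ 12) (hb : b ∈ [1, 10, 11, 16, 44, 45, 55])
    (h : 33 ∣ a * b) (ha0 : 0 < a) : a = 3 := by
  have ha3 : a ≤ 3 := by nlinarith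
  simp only [List.mem_cons, List.not_mem_nil, or_false] at hb
  interval_cases a <;> first | rfl | (rcases hb with rfl | rfl | rfl | rfl | rfl | rfl | rfl <;> norm_num at h)

/-- The classification of the groups with this order and graph. -/
theorem main (h : Nat.card G = 95040) (h11 : 11 ∈ degreePrimes G) (h55 : ∃ d ∈ charDegrees G, 55 ∣ d)
    (h33 : ∃ d ∈ charDegrees G, 33 ∣ d) :
    Nonempty (G ≃* ↥Spor.M12) ∨ Nonempty (G ≃* alternatingGroup (Fin 4) × ↥Spor.M11) := by
  classical
  obtain ⟨D⟩ := exists_chief h h11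
  haveI := Fintype.ofFinite D.T
  rcases simple_order_cases (G := D.T) D.noncommT (D.card_T_dvd h) D.eleven_T with hT | hT | hT
  · exfalso
    obtain ⟨d, hd, h55d⟩ := h55
    obtain ⟨e, -, hed, hquo, he2⟩ := D.exists_degree h hd
    have hidx : D.C.index ∣ 144 := index_dvd_of_card_dvd D.C h (a := 660) (b := 144) (by norm_num)
      (by norm_num) (hT ▸ D.card_T_dvd_C h)
    have hde : d = e * (d / e) := (Nat.mul_div_cancel' hed).symm
    rw [hde] at h55d
    have hcop : Nat.Coprime 55 (d / e) :=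
      Nat.Coprime.coprime_dvd_right (hquo.trans hidx) (by norm_num)
    have h55e : 55 ∣ e := hcop.dvd_of_dvd_mul_right h55d
    have he0 : 0 < e := by
      rcases Nat.eq_zero_or_pos e with h0 | h0
      · subst h0
        obtain ⟨χ, rfl⟩ := hd
        exact absurd (Nat.eq_zero_of_zero_dvd hed) (charDegree_eq χ).2
      · exact h0
    have : 55 ≤ e := Nat.le_of_dvd he0 h55e
    rw [hT] at he2
    nlinarith
  · right
    obtain ⟨hN, ⟨Φ⟩⟩ := iso_product h D hT
    obtain ⟨e⟩ := iso_m11_of_simple hT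
    obtain ⟨d, hd, h33d⟩ := h33
    rw [← CfsgLib.Char.SmallGraph.charDegrees_equiv Φ] at hd
    obtain ⟨χ, rfl⟩ := hd
    obtain ⟨φ, ψ, hφ, hψ, hprod⟩ := (CfsgLib.Char.isIrrCharacter_prod_iff _).1 χ.2
    set θ : IrrCharacter D.N := ⟨φ, hφ⟩ with hθ
    set η : IrrCharacter D.T := ⟨ψ, hψ⟩ with hη
    have hdeg : charDegree (χ : ↥D.N × ↥D.T → ℂ) = charDegree (θ : D.N → ℂ) * charDegree (η : D.T → ℂ) := by
      have h1 := congrFun hprod 1
      simp only [Prod.fst_one, Prod.snd_one] at h1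
      rw [(charDegree_eq χ).1, show φ 1 = (θ : D.N → ℂ) 1 from rfl, show ψ 1 = (η : D.T → ℂ) 1 from rfl,
        (charDegree_eq θ).1, (charDegree_eq η).1] at h1
      exact_mod_cast h1
    have hmem : charDegree (η : D.T → ℂ) ∈ [1, 10, 11, 16, 44, 45, 55] := by
      have hs := (Cfsg.Agent.S4429.result (G := D.T) hT).2 (charDegree (η : D.T → ℂ))
      by_contra hno
      simp only [List.mem_cons, List.not_mem_nil, or_false, not_or] at hno
      rw [if_neg (by tauto), if_neg (by tauto), if_neg (by tauto)] at hs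
      haveI : Nonempty {χ : IrrCharacter D.T // charDegree (χ : D.T → ℂ) = charDegree (η : D.T → ℂ)} :=
        ⟨⟨η, rfl⟩⟩
      exact Nat.card_pos.ne' hs
    have hsq : charDegree (θ : D.N → ℂ) ^ 2 ≤ 12 :=
      hN ▸ (CfsgLib.Char.TwoDegrees.degree_sq_le_center θ).trans
        (Nat.le_of_dvd Nat.card_pos (Subgroup.index_dvd_card _))
    have h3 := degree_dvd_thirtythree hsq hmem (hdeg ▸ h33d) (Nat.pos_of_ne_zero (charDegree_eq θ).2)
    obtain ⟨a4⟩ := iso_alt_four hN θ h3
    exact ⟨Φ.symm.trans (a4.prodCongr e)⟩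
  · exact Or.inl (iso_full h D hT)

end CfsgLib.Char.MTwelveGraph
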