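import Cfsg.Agent.Lib.Char.SmallGraph.Coprime
import Cfsg.Agent.Lib.Char.SmallGraph.Orders
import Cfsg.Agent.Lib.Char.DegreeRatio
import Cfsg.Agent.Lib.Char.TwoDegreesPrime

/-!
# Groups of order 95040 with eleven dividing a degree: the chief factor of order divisible by eleven
-/

set_option autoImplicit false
set_option linter.all false

open Cfsg Subgroup

namespace CfsgLib.Char.MTwelveGraph

universe u

variable {G : Type u} [Group G] [Finite G]

theorem no_fixed_point_free : ∀ q ∈ [2, 3, 5, 7], ∀ a < 14, 8640 % (q ^ a) = 0 → ∀ i, i ≤ a → 1 ≤ i →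
    ¬ 11 ∣ q ^ i - 1 := by decide +kernel

/-- An element of order eleven centralizes every normal subgroup of order prime to eleven. -/
theorem comm_of_normal (h : Nat.card G = 95040) {x : G} (hx : orderOf x = 11) (N : Subgroup G)
    [N.Normal] (hN : ¬ 11 ∣ Nat.card N) : ∀ g ∈ N, x * g = g * x := by
  classical
  haveI : Fact (Nat.Prime 11) := ⟨by norm_num⟩
  set F : Subgroup G := N ⊓ centralizer ({x} : Set G) with hF
  suffices hFN : F = N by
    intro g hg
    rw [← hFN, hF, mem_inf] at hg
    exact (mem_centralizer_singleton_iff.1 hg.2).symm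
  refine eq_of_le_of_card_ge inf_le_left (Nat.le_of_dvd Nat.card_pos ?_)
  refine (Nat.factorization_prime_le_iff_dvd Nat.card_pos.ne' Nat.card_pos.ne').1 fun q hq => ?_
  rcases Nat.eq_zero_or_pos ((Nat.card N).factorization q) with h0 | h0
  · rw [h0]; exact Nat.zero_le _
  haveI : Fact q.Prime := ⟨hq⟩
  obtain ⟨P, hPN, hinv, hPc⟩ := CfsgLib.Char.SmallGraph.exists_invariant_sylow (q := q) hx N hN
  set a := (Nat.card N).factorization q
  have hdN : Nat.card N ∣ 8640 := by
    have hd : Nat.card N ∣ 11 * 8640 := by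
      have := N.card_subgroup_dvd_card
      rw [h] at this
      exact this.trans (by norm_num)
    exact (Nat.Coprime.symm ((Nat.Prime.coprime_iff_not_dvd (by norm_num)).2 hN)).dvd_of_dvd_mul_left hd
  have hqa : q ^ a ∣ 8640 := (Nat.ordProj_dvd _ q).trans hdN
  have hq5 : q ∈ [2, 3, 5, 7] := by
    have hd : q ∣ 2 ^ 6 * 3 ^ 3 * 5 := (dvd_pow_self q h0.ne').trans (hqa.trans (by norm_num))
    simp only [List.mem_cons, List.not_mem_nil, or_false]
    rcases (Nat.Prime.dvd_mul hq).1 hd with hd' | hd'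
    · rcases (Nat.Prime.dvd_mul hq).1 hd' with hd'' | hd''
      · exact Or.inl ((Nat.prime_dvd_prime_iff_eq hq Nat.prime_two).1 (hq.dvd_of_dvd_pow hd''))
      · exact Or.inr (Or.inl ((Nat.prime_dvd_prime_iff_eq hq Nat.prime_three).1 (hq.dvd_of_dvd_pow hd'')))
    · exact Or.inr (Or.inr (Or.inl ((Nat.prime_dvd_prime_iff_eq hq (by norm_num)).1 hd')))
  have ha : a < 14 := by
    by_contra hlt
    have h1 : q ^ 14 ≤ 8640 := Nat.le_of_dvd (by norm_num) ((pow_dvd_pow q (by omega)).trans hqa)
    have h2 : 2 ^ 14 ≤ q ^ 14 := Nat.pow_le_pow_left hq.two_le 14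
    norm_num at h1 h2
    omega
  have hne : (11 : ℕ) ≠ q := by
    rintro rfl
    exact hN (Nat.dvd_of_factorization_pos h0.ne')
  refine (hq.pow_dvd_iff_le_factorization Nat.card_pos.ne').1 (hPc ▸ card_dvd_of_le (le_inf hPN ?_))
  intro g hg
  rw [mem_centralizer_singleton_iff]
  by_contra hne'
  obtain ⟨c, hc, hd, -⟩ := CfsgLib.Char.SmallGraph.exists_exponent hne hx P hinv hPc
    (fun hh => hne' (hh g hg).symm)
  exact no_fixed_point_free q hq5 a ha (Nat.mod_eq_zero_of_dvd hqa) (a - c) (by omega) (by omega) hd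

/-- The chief factor of order divisible by eleven. -/
structure Chief (G : Type u) [Group G] : Type u where
  N : Subgroup G
  normN : N.Normal
  T : Subgroup (G ⧸ N)
  normT : T.Normal
  simpleT : IsSimpleGroup T
  noncommT : ¬ IsMulCommutative T
  eleven_T : 11 ∣ Nat.card T
  eleven_N : ¬ 11 ∣ Nat.card N
  centT : centralizer (T : Set (G ⧸ N)) = ⊥
  comm : ∀ x : G, orderOf x = 11 → ∀ n ∈ N, x * n = n * x

attribute [instance] Chief.normN Chief.normT Chief.simpleT

theorem not_dvd_sq {n : ℕ} (hn : n ∣ 95040) : ¬ 11 * 11 ∣ n := fun h => by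
  have := h.trans hn
  norm_num at this

/-- In a group of order dividing the given one an element of order eleven lies in every normal subgroup
of order divisible by eleven. -/
theorem mem_of_order_eleven {A : Type u} [Group A] [Finite A] (hA : Nat.card A ∣ 95040) (M : Subgroup A)
    [M.Normal] (hM : 11 ∣ Nat.card M) {x : A} (hx : orderOf x = 11) : x ∈ M := by
  haveI : Fact (Nat.Prime 11) := ⟨by norm_num⟩
  by_contra hxM
  have hinj : zpowers x ⊓ M = ⊥ := by
    by_contra hne
    have hle : zpowers x ⊓ M ≤ zpowers x := inf_le_left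
    have h11 := card_dvd_of_le hle
    rw [Nat.card_zpowers, hx] at h11
    rcases (Nat.dvd_prime (by norm_num)).1 h11 with h | h
    · exact hne (eq_bot_of_card_eq _ h)
    · have he := eq_of_le_of_card_ge hle (by rw [Nat.card_zpowers, hx, h])
      have hmem : x ∈ zpowers x ⊓ M := he.symm ▸ mem_zpowers x
      exact hxM (mem_inf.1 hmem).2
  have hd : 11 ∣ M.index := by
    have : Nat.card (zpowers ((x : A) : A ⧸ M)) ∣ Nat.card (A ⧸ M) := card_subgroup_dvd_card _
    rw [Nat.card_zpowers, ← index_eq_card] at this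
    refine (dvd_of_eq ?_).trans this
    refine (orderOf_eq_prime ?_ ?_).symm
    · rw [← QuotientGroup.mk_pow, ← hx, pow_orderOf_eq_one, QuotientGroup.mk_one]
    · rw [Ne, QuotientGroup.eq_one_iff]
      exact hxM
  refine not_dvd_sq hA ?_
  rw [← M.card_mul_index]
  exact mul_dvd_mul hM hd

/-- A maximal normal subgroup of order prime to eleven. -/
theorem exists_core {A : Type u} [Group A] [Finite A] :
    ∃ O : Subgroup A, O.Normal ∧ ¬ 11 ∣ Nat.card O ∧
      ∀ K : Subgroup A, K.Normal → ¬ 11 ∣ Nat.card K → K ≤ O := by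
  classical
  haveI : Fintype (Subgroup A) := Fintype.ofFinite _
  obtain ⟨O, hO⟩ := Finset.exists_maximal
    (s := Finset.univ.filter fun N : Subgroup A => N.Normal ∧ ¬ 11 ∣ Nat.card N)
    ⟨⊥, Finset.mem_filter.2 ⟨Finset.mem_univ _, inferInstance, by simp⟩⟩
  obtain ⟨hOn, hO11⟩ := (Finset.mem_filter.1 hO.prop).2
  refine ⟨O, hOn, hO11, fun K hK hK11 => ?_⟩
  haveI := hOn
  haveI := hK
  have h : ¬ 11 ∣ Nat.card ↥(O ⊔ K) := by
    intro hd
    have h1 : Nat.card ↥(O ⊔ K) ∣ Nat.card O * Nat.card K := by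
      have h2 := Subgroup.card_mul_index (O.subgroupOf (O ⊔ K))
      rw [Nat.card_congr (subgroupOfEquivOfLe (le_sup_left : O ≤ O ⊔ K)).toEquiv] at h2
      rw [← h2]
      refine mul_dvd_mul_left _ ?_
      rw [← Subgroup.relIndex, sup_comm, Subgroup.relIndex_sup_right]
      exact relIndex_dvd_card O K
    rcases (Nat.Prime.dvd_mul (by norm_num)).1 (hd.trans h1) with h' | h'
    · exact hO11 h'
    · exact hK11 h'
  exact le_sup_right.trans
    (hO.2 (Finset.mem_filter.2 ⟨Finset.mem_univ _, inferInstance, h⟩) le_sup_left)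

/-- The chief factor exists. -/
theorem exists_chief (h : Nat.card G = 95040) (hd : 11 ∈ degreePrimes G) : Nonempty (Chief G) := by
  classical
  haveI : Fact (Nat.Prime 11) := ⟨by norm_num⟩
  obtain ⟨N, hNn, hN11, hNmax⟩ := exists_core (A := G)
  haveI := hNn
  have hcomm : ∀ x : G, orderOf x = 11 → ∀ n ∈ N, x * n = n * x := fun x hx =>
    comm_of_normal h hx N hN11
  have hQd : Nat.card (G ⧸ N) ∣ 95040 := h ▸ (index_eq_card N ▸ N.index_dvd_card)
  have hQ11 : 11 ∣ Nat.card (G ⧸ N) := by
    have h1 := Subgroup.card_eq_card_quotient_mul_card_subgroup N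
    rw [h] at h1
    have h2 : 11 ∣ Nat.card (G ⧸ N) * Nat.card N := h1 ▸ by norm_num
    exact ((Nat.Prime.dvd_mul (by norm_num)).1 h2).resolve_right hN11
  have htriv : ∀ K : Subgroup (G ⧸ N), K.Normal → ¬ 11 ∣ Nat.card K → K = ⊥ := by
    intro K hK hK11
    haveI := hK
    have hc : Nat.card (K.comap (QuotientGroup.mk' N)) = Nat.card K * Nat.card N := by
      have h1 := (K.comap (QuotientGroup.mk' N)).card_mul_index
      rw [index_comap_of_surjective _ (QuotientGroup.mk'_surjective N), h] at h1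
      have h2 := K.card_mul_index
      have h3 := Subgroup.card_eq_card_quotient_mul_card_subgroup N
      rw [h, ← h2] at h3
      have hpos : 0 < K.index := Nat.pos_of_ne_zero index_ne_zero_of_finite
      refine Nat.eq_of_mul_eq_mul_right hpos ?_
      rw [h1, h3]
      ring
    have hle := hNmax (K.comap (QuotientGroup.mk' N)) inferInstance (fun hd' => by
      rw [hc] at hd'
      exact ((Nat.Prime.dvd_mul (by norm_num)).1 hd').elim hK11 hN11)
    rw [eq_bot_iff]
    intro k hk
    obtain ⟨g, rfl⟩ := QuotientGroup.mk'_surjective N k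
    rw [mem_bot, QuotientGroup.mk'_apply, QuotientGroup.eq_one_iff]
    exact hle hk
  haveI : Nontrivial (G ⧸ N) := Finite.one_lt_card_iff_nontrivial.1
    (lt_of_lt_of_le (by norm_num) (Nat.le_of_dvd Nat.card_pos hQ11))
  haveI : Fintype (Subgroup (G ⧸ N)) := Fintype.ofFinite _
  obtain ⟨T, hT⟩ := Finset.exists_minimal
    (s := Finset.univ.filter fun T : Subgroup (G ⧸ N) => T.Normal ∧ T ≠ ⊥)
    ⟨⊤, Finset.mem_filter.2 ⟨Finset.mem_univ _, inferInstance, top_ne_bot⟩⟩
  obtain ⟨hTn, hTb⟩ := (Finset.mem_filter.1 hT.prop).2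
  haveI := hTn
  have hT11 : 11 ∣ Nat.card T := by
    by_contra hcon
    exact hTb (htriv T hTn hcon)
  have hTd : Nat.card T ∣ 95040 := T.card_subgroup_dvd_card.trans hQd
  have hmin : ∀ K : Subgroup (G ⧸ N), K.Normal → K ≤ T → K = ⊥ ∨ K = T := by
    intro K hK hle
    by_cases hb : K = ⊥
    · exact Or.inl hb
    · exact Or.inr (le_antisymm hle (hT.2 (Finset.mem_filter.2 ⟨Finset.mem_univ _, hK, hb⟩) hle))
  haveI : Nontrivial T := (nontrivial_iff_ne_bot T).2 hTb
  -- the core of `T`
  obtain ⟨O, hOn, hO11, hOmax⟩ := exists_core (A := T)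
  haveI hOc : O.Characteristic := by
    rw [characteristic_iff_map_le]
    intro φ
    refine hOmax _ (Subgroup.Normal.map hOn _ φ.surjective) ?_
    rw [card_map_of_injective φ.injective]
    exact hO11
  have hObot : O = ⊥ := by
    rcases hmin (O.map T.subtype) inferInstance (map_subtype_le O) with hb | hb
    · exact (map_eq_bot_iff_of_injective O T.subtype_injective).1 hb
    · exfalso
      refine hO11 ?_
      rw [← card_map_of_injective (f := T.subtype) T.subtype_injective, hb]
      exact hT11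
  haveI hsimple : IsSimpleGroup T := by
    refine ⟨fun K hK => or_iff_not_imp_left.2 fun hKb => ?_⟩
    haveI := hK
    have hK11 : 11 ∣ Nat.card K := by
      by_contra hcon
      exact hKb (eq_bot_iff.2 (hObot ▸ hOmax K hK hcon))
    -- the elements of order eleven generate a characteristic subgroup inside `K`
    set W : Subgroup T := closure {x : T | orderOf x = 11} with hW
    haveI : W.Characteristic := by
      rw [characteristic_iff_map_le]
      intro φ
      rw [hW, MonoidHom.map_closure]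
      refine closure_mono ?_
      rintro _ ⟨y, hy, rfl⟩
      show orderOf (φ y) = 11
      rw [MulEquiv.orderOf_eq]
      exact hy
    have hWK : W ≤ K := (closure_le _).2 fun x hx => mem_of_order_eleven hTd K hK11 hx
    rcases hmin (W.map T.subtype) inferInstance (map_subtype_le W) with hb | hb
    · exfalso
      obtain ⟨x, hx⟩ := exists_prime_orderOf_dvd_card' (G := T) 11 hT11
      have hxW : x ∈ W := subset_closure hx
      rw [(map_eq_bot_iff_of_injective W T.subtype_injective).1 hb, mem_bot] at hxW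
      rw [hxW, orderOf_one] at hx
      norm_num at hx
    · refine eq_top_iff.2 fun t _ => hWK ?_
      have ht : (t : G ⧸ N) ∈ W.map T.subtype := by rw [hb]; exact t.2
      obtain ⟨w, hw, e⟩ := ht
      exact Subtype.ext e ▸ hw
  have hnc : ¬ IsMulCommutative T := by
    intro hc
    haveI := hc
    letI : CommGroup T :=
      { (inferInstance : Group T) with mul_comm := fun a b => IsMulCommutative.is_comm.comm a b }
    have hp : (Nat.card T).Prime := IsSimpleGroup.prime_card (α := T)
    have hT11' : Nat.card T = 11 := ((Nat.prime_dvd_prime_iff_eq (by norm_num) hp).1 hT11).symm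
    -- then a Sylow subgroup would be normal and abelian
    obtain ⟨x, hx⟩ := exists_prime_orderOf_dvd_card' (G := G) 11 (by rw [h]; norm_num)
    have hkey : ∀ g : G, orderOf g = 11 → g ∈ zpowers x := by
      intro g hg
      have hmem : ∀ y : G, orderOf y = 11 → (y : G ⧸ N) ∈ T ∧ (y : G ⧸ N) ≠ 1 := fun y hy => by
        have hne : (y : G ⧸ N) ≠ 1 := fun e => hN11 (by
          rw [← hy]; exact Subgroup.orderOf_dvd_natCard _ ((QuotientGroup.eq_one_iff y).1 e))
        exact ⟨mem_of_order_eleven hQd T hT11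
          (orderOf_eq_prime (by rw [← QuotientGroup.mk_pow, ← hy, pow_orderOf_eq_one, QuotientGroup.mk_one]) hne), hne⟩
      obtain ⟨hgT, -⟩ := hmem g hg
      obtain ⟨hxT, hx1⟩ := hmem x hx
      have hgen : zpowers (x : G ⧸ N) = T := by
        refine eq_of_le_of_card_ge (zpowers_le.2 hxT) ?_
        have hox : orderOf (x : G ⧸ N) = 11 :=
          orderOf_eq_prime (by rw [← QuotientGroup.mk_pow, ← hx, pow_orderOf_eq_one, QuotientGroup.mk_one]) hx1
        rw [hT11', Nat.card_zpowers, hox]
      obtain ⟨k, hk⟩ := mem_zpowers_iff.1 (hgen.symm ▸ hgT : (g : G ⧸ N) ∈ zpowers (x : G ⧸ N))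
      rw [← QuotientGroup.mk_zpow, QuotientGroup.eq] at hk
      set n := (x ^ k)⁻¹ * g with hn
      have hcn : Commute (x ^ k) n := (show Commute x n from hcomm x hx n hk).zpow_left k
      have hgn : g = x ^ k * n := by rw [hn, mul_inv_cancel_left]
      have hn1 : n = 1 := by
        have h1 : (x ^ k) ^ 11 * n ^ 11 = 1 := by rw [← hcn.mul_pow, ← hgn, ← hg, pow_orderOf_eq_one]
        have h2 : (x ^ k) ^ 11 = 1 := by
          rw [← zpow_natCast, ← zpow_mul, mul_comm, zpow_mul, zpow_natCast, ← hx, pow_orderOf_eq_one, one_zpow]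
        rw [h2, one_mul] at h1
        by_contra hne
        exact hN11 ((orderOf_eq_prime h1 hne) ▸ Subgroup.orderOf_dvd_natCard _ hk)
      rw [hgn, hn1, mul_one]
      exact zpow_mem (mem_zpowers x) k
    haveI : (zpowers x).Normal := by
      refine ⟨fun y hy g => ?_⟩
      rcases eq_or_ne y 1 with rfl | hy1
      · simp
      · refine hkey _ ?_
        have hd' := Subgroup.orderOf_dvd_natCard _ hy
        rw [Nat.card_zpowers, hx] at hd'
        have hy11 := ((Nat.dvd_prime (by norm_num)).1 hd').resolve_left (fun e => hy1 (orderOf_eq_one_iff.1 e))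
        rw [← hy11]
        exact (MulAut.conj g).orderOf_eq y
    exact CfsgLib.Char.SmallGraph.not_mem_of_normal_prime (by norm_num) (zpowers x)
      (by rw [Nat.card_zpowers, hx]) (by rw [h]; norm_num) hd
  refine ⟨⟨N, hNn, T, hTn, hsimple, hnc, hT11, hN11, htriv _ inferInstance fun hd' => ?_, hcomm⟩⟩
  obtain ⟨z, hz⟩ := exists_prime_orderOf_dvd_card' (G := centralizer (T : Set (G ⧸ N))) 11 hd'
  rw [← Subgroup.orderOf_coe] at hz
  have hzT := mem_of_order_eleven hQd T hT11 hz
  have hzc : (⟨(z : G ⧸ N), hzT⟩ : T) ∈ center T := mem_center_iff.2 fun t => Subtype.ext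
    (mem_centralizer_iff.1 z.2 t t.2)
  rcases (IsSimpleGroup.eq_bot_or_eq_top_of_normal (center T) inferInstance) with hb | hb
  · rw [hb, mem_bot] at hzc
    rw [show (z : G ⧸ N) = 1 from congrArg Subtype.val hzc, orderOf_one] at hz
    norm_num at hz
  · exact hnc ⟨⟨fun a b => (mem_center_iff.1 (hb ▸ mem_top b : b ∈ center T) a)⟩⟩

namespace Chief

variable (D : Chief G)

theorem card_mul : Nat.card (G ⧸ D.N) * Nat.card D.N = Nat.card G :=
  (Subgroup.card_eq_card_quotient_mul_card_subgroup D.N).symm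

theorem card_T_dvd (h : Nat.card G = 95040) : Nat.card D.T ∣ 95040 :=
  h ▸ D.T.card_subgroup_dvd_card.trans ((index_eq_card D.N) ▸ D.N.index_dvd_card)

/-- The centralizer of `N` over the chief factor. -/
def C : Subgroup G := centralizer (D.N : Set G) ⊓ D.T.comap (QuotientGroup.mk' D.N)

instance : D.C.Normal :=
  haveI : (centralizer (D.N : Set G)).Normal := inferInstance
  Subgroup.normal_inf_normal _ _

/-- The projection. -/
def toT : D.C →* D.T :=
  ((QuotientGroup.mk' D.N).comp D.C.subtype).codRestrict D.T fun c => (mem_inf.1 c.2).2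

theorem toT_surjective (h : Nat.card G = 95040) : Function.Surjective D.toT := by
  haveI : Fact (Nat.Prime 11) := ⟨by norm_num⟩
  haveI : (D.toT.range).Normal := by
    refine ⟨?_⟩
    rintro _ ⟨c, rfl⟩ t
    obtain ⟨g, hg⟩ := QuotientGroup.mk'_surjective D.N (t : G ⧸ D.N)
    refine ⟨⟨g * c * g⁻¹, Subgroup.Normal.conj_mem inferInstance _ c.2 g⟩, Subtype.ext ?_⟩
    show (QuotientGroup.mk' D.N) (g * c * g⁻¹) = _
    rw [map_mul, map_mul, map_inv, hg]
    rfl
  rw [← MonoidHom.range_eq_top]
  refine (IsSimpleGroup.eq_bot_or_eq_top_of_normal D.toT.range inferInstance).resolve_left fun hb => ?_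
  obtain ⟨x, hx⟩ := exists_prime_orderOf_dvd_card' (G := G) 11 (by rw [h]; norm_num)
  have hne : (x : G ⧸ D.N) ≠ 1 := fun e => D.eleven_N (by
    rw [← hx]; exact Subgroup.orderOf_dvd_natCard _ ((QuotientGroup.eq_one_iff x).1 e))
  have hxT : (x : G ⧸ D.N) ∈ D.T := mem_of_order_eleven (h ▸ (index_eq_card D.N ▸ D.N.index_dvd_card)) D.T
    D.eleven_T (orderOf_eq_prime (by rw [← QuotientGroup.mk_pow, ← hx, pow_orderOf_eq_one, QuotientGroup.mk_one]) hne)
  have hmem : D.toT ⟨x, mem_inf.2 ⟨mem_centralizer_iff.2 fun n hn => (D.comm x hx n hn).symm, hxT⟩⟩ ∈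
      D.toT.range := ⟨_, rfl⟩
  rw [hb, mem_bot] at hmem
  exact hne (congrArg Subtype.val hmem)

theorem ker_le_center : D.toT.ker ≤ center D.C := by
  intro c hc
  have hcN : (c : G) ∈ D.N := (QuotientGroup.eq_one_iff (c : G)).1 (congrArg Subtype.val hc)
  exact mem_center_iff.2 fun d => Subtype.ext ((mem_centralizer_iff.1 (mem_inf.1 d.2).1 _ hcN).symm)

theorem card_T_dvd_C (h : Nat.card G = 95040) : Nat.card D.T ∣ Nat.card D.C :=
  Subgroup.card_dvd_of_surjective D.toT (D.toT_surjective h)

theorem center_index_le (h : Nat.card G = 95040) : (center D.C).index ≤ Nat.card D.T := by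
  have h1 := Subgroup.index_dvd_of_le D.ker_le_center
  rw [index_ker, MonoidHom.range_eq_top.2 (D.toT_surjective h), card_top] at h1
  exact Nat.le_of_dvd Nat.card_pos h1

/-- A prime whose full part lies in the chief factor passes from a degree to a constituent on `C`. -/
theorem exists_degree (h : Nat.card G = 95040) {d : ℕ} (hd : d ∈ charDegrees G) :
    ∃ e ∈ charDegrees ↥D.C, e ∣ d ∧ d / e ∣ D.C.index ∧ e ^ 2 ≤ Nat.card D.T := by
  classical
  haveI := Fintype.ofFinite G
  haveI := Fintype.ofFinite D.C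
  obtain ⟨χ, rfl⟩ := hd
  obtain ⟨θ, hθ⟩ : ∃ θ : IrrCharacter D.C, classInner (fun n : D.C => (χ : G → ℂ) n) (θ : D.C → ℂ) ≠ 0 := by
    by_contra hall
    push Not at hall
    have h0 := CfsgLib.Char.classFun_eq_zero_of_perp (G := D.C) (f := fun n : D.C => (χ : G → ℂ) n)
      (CfsgLib.Char.isClassFunction_of_isCharacter
        (CfsgLib.Char.isCharacter_comp (CfsgLib.Char.isCharacter_irr χ) D.C.subtype)) hall
    exact CfsgLib.Char.irr_one_ne_zero χ (congrFun h0 1)
  obtain ⟨h1, h2⟩ := CfsgLib.Char.ratio_dvd_index D.C χ.2 θ.2 hθ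
    (CfsgLib.Block.ItoMichler.one_eq_cast χ) (CfsgLib.Block.ItoMichler.one_eq_cast θ)
  exact ⟨_, ⟨θ, rfl⟩, h1, h2,
    (CfsgLib.Char.TwoDegrees.degree_sq_le_center θ).trans (D.center_index_le h)⟩

end Chief

end CfsgLib.Char.MTwelveGraph
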