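import Cfsg.Agent.Lib.Char.MTwelveOrder.Eleven
import Cfsg.Agent.Lib.Block.Cyclic.SylowSections

/-!
# Simple groups with 144 Sylow subgroups of order eleven
-/

set_option autoImplicit false
set_option linter.all false

open Cfsg CfsgLib.Char.MEleven.Order

namespace CfsgLib.Char.MTwelveGraph

universe u

variable {G : Type u} [Group G] [Finite G]

theorem dvd_144_cases : ∀ j < 145, 144 % j = 0 → j % 11 = 1 → j = 1 ∨ j = 12 ∨ j = 144 := by decide +kernel

/-- A subgroup conjugating `y` into its cyclic group normalizes that group. -/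
theorem le_normalizer_zpowers {H : Subgroup G} {y : G}
    (h : ∀ g ∈ H, g * y * g⁻¹ ∈ Subgroup.zpowers y) :
    H ≤ Subgroup.normalizer (Subgroup.zpowers y : Set G) := by
  have key : ∀ g ∈ H, ∀ w ∈ Subgroup.zpowers y, g * w * g⁻¹ ∈ Subgroup.zpowers y := by
    intro g hg w hw
    obtain ⟨k, rfl⟩ := Subgroup.mem_zpowers_iff.1 hw
    rw [← conj_zpow]
    exact Subgroup.zpow_mem _ (h g hg) k
  intro g hg
  rw [Subgroup.mem_normalizer_iff]
  intro w
  refine ⟨key g hg w, fun hw => ?_⟩
  have h1 := key g⁻¹ (H.inv_mem hg) _ hw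
  rwa [show g⁻¹ * (g * w * g⁻¹) * g⁻¹⁻¹ = w by group] at h1

/-- The centralizer of a Sylow subgroup of prime order has index `e` in its normalizer. -/
theorem relIndex_centralizer {P : Subgroup G} {e k : ℕ} (hk : 0 < k)
    (hC : Nat.card (Subgroup.centralizer (P : Set G)) = k)
    (hN : Nat.card (Subgroup.normalizer (P : Set G)) = e * k) :
    (Subgroup.centralizer (P : Set G)).relIndex (Subgroup.normalizer (P : Set G)) = e := by
  have h := Subgroup.card_mul_index
    ((Subgroup.centralizer (P : Set G)).subgroupOf (Subgroup.normalizer (P : Set G)))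
  rw [Nat.card_congr (Subgroup.subgroupOfEquivOfLe (Subgroup.centralizer_le_normalizer _)).toEquiv,
    hC, hN] at h
  rw [Subgroup.relIndex]
  exact Nat.eq_of_mul_eq_mul_left hk (by rw [h, mul_comm])

/-- The `e`-th power of an element of the normalizer centralizes. -/
theorem pow_mem_centralizer {P : Subgroup G} {e k : ℕ} (hk : 0 < k)
    (hC : Nat.card (Subgroup.centralizer (P : Set G)) = k)
    (hN : Nat.card (Subgroup.normalizer (P : Set G)) = e * k) {g : G}
    (hg : g ∈ Subgroup.normalizer (P : Set G)) : g ^ e ∈ Subgroup.centralizer (P : Set G) := by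
  haveI : ((Subgroup.centralizer (P : Set G)).subgroupOf (Subgroup.normalizer (P : Set G))).Normal := by
    rw [← Subgroup.normalizerMonoidHom_ker]
    infer_instance
  have h := Subgroup.pow_index_mem
    ((Subgroup.centralizer (P : Set G)).subgroupOf (Subgroup.normalizer (P : Set G))) (⟨g, hg⟩ : _)
  rw [← Subgroup.relIndex, relIndex_centralizer hk hC hN, Subgroup.mem_subgroupOf] at h
  simpa using h

variable [IsSimpleGroup G]

/-- An element whose cyclic group is normalized by the Sylow normalizer has centralizer inside it. -/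
theorem cent_le_normalizer (hG : ¬ IsMulCommutative G) {P : Sylow 11 G}
    (hP : Nat.card (P : Subgroup G) = 11) (hn : Nat.card (Sylow 11 G) = 144)
    (hc : 11 < Nat.card (Subgroup.centralizer ((P : Subgroup G) : Set G))) {y : G} (hy : y ≠ 1)
    (hle : Subgroup.normalizer ((P : Subgroup G) : Set G) ≤ Subgroup.normalizer (Subgroup.zpowers y : Set G)) :
    Subgroup.centralizer ({y} : Set G) ≤ Subgroup.normalizer ((P : Subgroup G) : Set G) := by
  classical
  haveI := Fintype.ofFinite G
  haveI : Fact (Nat.Prime 11) := ⟨by norm_num⟩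
  set M := Subgroup.normalizer (Subgroup.zpowers y : Set G) with hM
  set N := Subgroup.normalizer ((P : Subgroup G) : Set G) with hNd
  have hMtop : M ≠ ⊤ := by
    intro he
    have hn' : (Subgroup.zpowers y).Normal := Subgroup.normalizer_eq_top_iff.1 he
    rcases IsSimpleGroup.eq_bot_or_eq_top_of_normal _ hn' with hb | ht
    · exact hy (Subgroup.zpowers_eq_bot.1 hb)
    · refine hy (CfsgLib.Perm.PrimeBlock.center_trivial hG fun a => ?_)
      obtain ⟨k, rfl⟩ := Subgroup.mem_zpowers_iff.1 (ht ▸ Subgroup.mem_top a : a ∈ Subgroup.zpowers y)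
      exact (Commute.self_zpow y k).eq
  have hPM : (P : Subgroup G) ≤ M := Subgroup.le_normalizer.trans hle
  have hj : (N.relIndex M) % 11 = 1 := by
    have h1 := card_sylow_modEq_one 11 M
    rw [Sylow.card_eq_index_normalizer (P.subtype hPM),
      show ((P.subtype hPM : Sylow 11 M) : Set M) = (((P : Subgroup G).subgroupOf M : Subgroup M) : Set M) from rfl,
      ← Subgroup.subgroupOf_normalizer_eq hPM, ← Subgroup.relIndex] at h1
    rwa [Nat.ModEq, Nat.one_mod_eq_one.2 (by norm_num)] at h1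
  have hmul := Subgroup.relIndex_mul_index hle
  rw [show N.index = Nat.card (Sylow 11 G) from P.card_eq_index_normalizer.symm, hn] at hmul
  have hlt : N.relIndex M < 145 := Nat.lt_succ_of_le (Nat.le_of_dvd (by norm_num) ⟨_, hmul.symm⟩)
  rcases dvd_144_cases _ hlt (Nat.mod_eq_zero_of_dvd ⟨_, hmul.symm⟩) hj with h | h | h
  · refine le_trans ?_ (Subgroup.relIndex_eq_one.1 h)
    intro g hg
    have hgc := Subgroup.mem_centralizer_singleton_iff.1 hg
    refine le_normalizer_zpowers (H := Subgroup.centralizer ({y} : Set G)) (fun a ha => ?_) hg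
    rw [Subgroup.mem_centralizer_singleton_iff.1 ha, mul_inv_cancel_right]
    exact Subgroup.mem_zpowers y
  · exfalso
    rw [h] at hmul
    obtain ⟨g, hg⟩ : ∃ g, g ∉ M := by
      by_contra hno
      push Not at hno
      exact hMtop (eq_top_iff.2 fun g _ => hno g)
    have hact : ∃ (g : G) (a : G ⧸ M), g • a ≠ a := by
      refine ⟨g, ((1 : G) : G ⧸ M), fun e => hg ?_⟩
      rw [MulAction.Quotient.smul_coe, smul_eq_mul, mul_one, eq_comm, QuotientGroup.eq] at e
      simpa using e
    obtain ⟨x', hx'⟩ := exists_prime_orderOf_dvd_card' (G := (P : Subgroup G)) 11 (by rw [hP])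
    have hxo : orderOf (x' : G) = 11 := by rw [Subgroup.orderOf_coe, hx']
    have := CfsgLib.Char.MTwelveOrder.cent_le_of_index_twelve hG (α := G ⧸ M)
      (by rw [← Subgroup.index_eq_card]; omega) hact (x := (x' : G)) hxo
    rw [centralizer_of_order hP hxo] at this
    omega
  · exfalso
    rw [h] at hmul
    exact hMtop (Subgroup.index_eq_one.1 (by omega))

/-- No simple group has 144 Sylow subgroups of order eleven with a big prime power centralized. -/
theorem false_144 (hG : ¬ IsMulCommutative G) {P : Sylow 11 G} (hP : Nat.card (P : Subgroup G) = 11)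
    (hn : Nat.card (Sylow 11 G) = 144) {e c : ℕ}
    (hC : Nat.card (Subgroup.centralizer ((P : Subgroup G) : Set G)) = 11 * c)
    (hN : Nat.card (Subgroup.normalizer ((P : Subgroup G) : Set G)) = e * (11 * c))
    {r a : ℕ} [Fact r.Prime] (hre : Nat.Coprime e r) (hrc : r ∣ c)
    (hra : r ^ a ∣ Nat.card G) (hbad : ¬ r ^ a ∣ e * (11 * c))
    (hnorm : ∀ y ∈ Subgroup.centralizer ((P : Subgroup G) : Set G), orderOf y = r →
      Subgroup.normalizer ((P : Subgroup G) : Set G) ≤ Subgroup.normalizer (Subgroup.zpowers y : Set G)) :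
    False := by
  classical
  haveI := Fintype.ofFinite G
  have hr : r.Prime := Fact.out
  have hc0 : 0 < c := Nat.pos_of_ne_zero fun h0 => by
    rw [h0, mul_zero] at hC; exact Nat.card_pos.ne' hC
  have hc11 : 11 < Nat.card (Subgroup.centralizer ((P : Subgroup G) : Set G)) := by
    rw [hC]
    have := hr.two_le
    have := Nat.le_of_dvd hc0 hrc
    omega
  obtain ⟨y', hy'⟩ := exists_prime_orderOf_dvd_card' (G := Subgroup.centralizer ((P : Subgroup G) : Set G)) r
    (by rw [hC]; exact hrc.mul_left 11)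
  have hy : orderOf (y' : G) = r := by rw [Subgroup.orderOf_coe, hy']
  have hne : ∀ w : G, orderOf w = r → w ≠ 1 := fun w hw e => by
    rw [e, orderOf_one] at hw; exact hr.one_lt.ne hw
  obtain ⟨S, hS⟩ := (IsPGroup.of_card (n := 1) (by rw [Nat.card_zpowers, hy, pow_one]) :
    IsPGroup r (Subgroup.zpowers (y' : G))).exists_le_sylow
  have hyS : (y' : G) ∈ (S : Subgroup G) := hS (Subgroup.mem_zpowers _)
  haveI : Nontrivial (S : Subgroup G) := ⟨⟨⟨y', hyS⟩, 1, fun e => hne _ hy (congrArg Subtype.val e)⟩⟩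
  haveI := S.2.center_nontrivial
  obtain ⟨k, hk⟩ := (S.2.to_subgroup (Subgroup.center (S : Subgroup G))).exists_card_eq
  have hk0 : k ≠ 0 := by
    rintro rfl
    have := Finite.one_lt_card (α := Subgroup.center (S : Subgroup G))
    rw [hk, pow_zero] at this
    omega
  obtain ⟨z', hz'⟩ := exists_prime_orderOf_dvd_card' (G := Subgroup.center (S : Subgroup G)) r
    (by rw [hk]; exact dvd_pow_self r hk0)
  set z : G := ((z' : (S : Subgroup G)) : G) with hzd
  have hz : orderOf z = r := by rw [hzd, Subgroup.orderOf_coe, Subgroup.orderOf_coe, hz']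
  have hzN : z ∈ Subgroup.normalizer ((P : Subgroup G) : Set G) := by
    refine cent_le_normalizer hG hP hn hc11 (hne _ hy) (hnorm _ y'.2 hy) ?_
    rw [Subgroup.mem_centralizer_singleton_iff]
    exact congrArg Subtype.val (Subgroup.mem_center_iff.1 z'.2 ⟨y', hyS⟩).symm
  have hzC : z ∈ Subgroup.centralizer ((P : Subgroup G) : Set G) := by
    obtain ⟨m, hm⟩ := exists_pow_eq_self_of_coprime (x := z) (n := e) (by rw [hz]; exact hre)
    rw [← hm]
    exact Subgroup.pow_mem _ (pow_mem_centralizer (by omega) hC hN hzN) m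
  have hle := cent_le_normalizer hG hP hn hc11 (hne _ hz) (hnorm z hzC hz)
  have hSz : (S : Subgroup G) ≤ Subgroup.centralizer ({z} : Set G) := fun s hs => by
    rw [Subgroup.mem_centralizer_singleton_iff]
    exact congrArg Subtype.val (Subgroup.mem_center_iff.1 z'.2 ⟨s, hs⟩)
  refine hbad ((S.pow_dvd_card_of_pow_dvd_card hra).trans ?_)
  rw [← hN]
  exact Subgroup.card_dvd_of_le (hSz.trans hle)

/-- The regular part of the centralizer. -/
theorem exists_regular (hsq : ¬ 11 ^ 2 ∣ Nat.card G) {P : Subgroup G} (hP : Nat.card P = 11) {c : ℕ}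
    (hC : Nat.card (Subgroup.centralizer (P : Set G)) = 11 * c) :
    ∃ K : Subgroup G, (∀ y, y ∈ K ↔ y ∈ Subgroup.centralizer (P : Set G) ∧ ¬ 11 ∣ orderOf y) ∧
      Nat.card K ∣ c := by
  classical
  haveI := Fintype.ofFinite G
  haveI : Fact (Nat.Prime 11) := ⟨by norm_num⟩
  obtain ⟨K, hK⟩ := CfsgLib.Block.Cyclic.exists_regular_subgroup hP hsq
  refine ⟨K, hK, ?_⟩
  have hKC : K ≤ Subgroup.centralizer (P : Set G) := fun y hy => ((hK y).1 hy).1
  have h11 : ¬ 11 ∣ Nat.card K := fun hd => by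
    obtain ⟨w, hw⟩ := exists_prime_orderOf_dvd_card' (G := K) 11 hd
    exact ((hK w).1 w.2).2 (by rw [Subgroup.orderOf_coe, hw])
  exact (Nat.Coprime.symm ((Nat.Prime.coprime_iff_not_dvd (by norm_num)).2 h11)).dvd_of_dvd_mul_left
    (hC ▸ Subgroup.card_dvd_of_le hKC)

/-- A regular part of order `r` or twice an odd `r`. -/
theorem norm_of_small (hsq : ¬ 11 ^ 2 ∣ Nat.card G) {P : Subgroup G} (hP : Nat.card P = 11) {c r : ℕ}
    (hC : Nat.card (Subgroup.centralizer (P : Set G)) = 11 * c) (hr : r.Prime) (hr11 : r ≠ 11)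
    (hc : c = r ∨ (c = 2 * r ∧ Odd r)) :
    ∀ y ∈ Subgroup.centralizer (P : Set G), orderOf y = r →
      Subgroup.normalizer (P : Set G) ≤ Subgroup.normalizer (Subgroup.zpowers y : Set G) := by
  classical
  haveI := Fintype.ofFinite G
  haveI : Fact (Nat.Prime 11) := ⟨by norm_num⟩
  obtain ⟨K, hK, hKc⟩ := exists_regular hsq hP hC
  intro y hyC hy
  have hndvd : ¬ 11 ∣ r := fun hd => hr11 ((Nat.prime_dvd_prime_iff_eq (by norm_num) hr).1 hd).symm
  have hyK : y ∈ K := (hK y).2 ⟨hyC, by rw [hy]; exact hndvd⟩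
  haveI : Fintype K := Fintype.ofFinite _
  refine le_normalizer_zpowers fun g hg => ?_
  have hwK : g * y * g⁻¹ ∈ K := CfsgLib.Block.Cyclic.conj_mem_K hP hK hg ⟨y, hyK⟩
  set w := g * y * g⁻¹ with hwd
  have hw : orderOf w = r := hy ▸ (MulAut.conj g).orderOf_eq y
  have hle : Subgroup.zpowers y ≤ K := Subgroup.zpowers_le.2 hyK
  have hi := Subgroup.card_mul_index ((Subgroup.zpowers y).subgroupOf K)
  rw [Nat.card_congr (Subgroup.subgroupOfEquivOfLe hle).toEquiv, Nat.card_zpowers, hy] at hi
  rcases hc with hc | ⟨hc, hodd⟩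
  · have h1 : ((Subgroup.zpowers y).subgroupOf K).index = 1 := by
      have : r * ((Subgroup.zpowers y).subgroupOf K).index ∣ r * 1 := by rw [hi, mul_one, ← hc]; exact hKc
      exact Nat.dvd_one.1 (Nat.dvd_of_mul_dvd_mul_left hr.pos this)
    have := Subgroup.index_eq_one.1 h1
    exact Subgroup.subgroupOf_eq_top.1 this hwK
  · have h2 : r * ((Subgroup.zpowers y).subgroupOf K).index ∣ r * 2 := by
      rw [hi, mul_comm r 2, ← hc]; exact hKc
    have hsq' : w * w ∈ Subgroup.zpowers y := by
      rcases (Nat.dvd_prime Nat.prime_two).1 (Nat.dvd_of_mul_dvd_mul_left hr.pos h2) with h | h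
      · exact mul_mem (Subgroup.subgroupOf_eq_top.1 (Subgroup.index_eq_one.1 h) hwK)
          (Subgroup.subgroupOf_eq_top.1 (Subgroup.index_eq_one.1 h) hwK)
      · simpa [Subgroup.mem_subgroupOf] using Subgroup.mul_self_mem_of_index_two h ⟨w, hwK⟩
    obtain ⟨m, hm⟩ := exists_pow_eq_self_of_coprime (x := w) (n := 2)
      (by rw [hw]; exact Nat.coprime_two_left.2 hodd)
    rw [← hm, pow_two]
    exact Subgroup.pow_mem _ hsq' m

/-- A regular part of order four and an automiser of order five. -/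
theorem norm_of_four (hsq : ¬ 11 ^ 2 ∣ Nat.card G) {P : Subgroup G} (hP : Nat.card P = 11)
    (hC : Nat.card (Subgroup.centralizer (P : Set G)) = 11 * 4)
    (hN : Nat.card (Subgroup.normalizer (P : Set G)) = 5 * (11 * 4)) :
    ∀ y ∈ Subgroup.centralizer (P : Set G), orderOf y = 2 →
      Subgroup.normalizer (P : Set G) ≤ Subgroup.normalizer (Subgroup.zpowers y : Set G) := by
  classical
  haveI := Fintype.ofFinite G
  haveI : Fact (Nat.Prime 11) := ⟨by norm_num⟩
  haveI : Fact (Nat.Prime 2) := ⟨Nat.prime_two⟩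
  obtain ⟨K, hK, hKc⟩ := exists_regular hsq hP hC
  intro y hyC hy
  have hyK : y ∈ K := (hK y).2 ⟨hyC, by rw [hy]; norm_num⟩
  haveI : Fintype K := Fintype.ofFinite _
  have hKcomm : ∀ a b : K, a * b = b * a := by
    obtain ⟨i, hi, hic⟩ := (Nat.dvd_prime_pow Nat.prime_two).1 (show Nat.card K ∣ 2 ^ 2 from hKc)
    interval_cases i
    · intro a b
      haveI : Subsingleton K := (Nat.card_eq_one_iff_unique.1 (by rw [hic]; rfl)).1
      exact Subsingleton.elim _ _
    · haveI := isCyclic_of_prime_card (α := K) (p := 2) (by rw [hic]; rfl)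
      exact fun a b => (IsCyclic.commGroup (α := K)).mul_comm a b
    · exact IsPGroup.commutative_of_card_eq_prime_sq hic
  refine le_normalizer_zpowers fun g hg => ?_
  suffices g ∈ Subgroup.centralizer ({y} : Set G) by
    rw [Subgroup.mem_centralizer_singleton_iff.1 this, mul_inv_cancel_right]
    exact Subgroup.mem_zpowers y
  -- the power of exponent 55
  have hu := pow_mem_centralizer (by norm_num) hC hN hg
  have h55 : g ^ 55 ∈ Subgroup.centralizer ({y} : Set G) := by
    have hord : orderOf ((g ^ 5) ^ 11) ∣ 4 := orderOf_dvd_of_pow_eq_one (by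
      rw [← pow_mul (g ^ 5) 11 4]
      have := pow_card_eq_one' (G := Subgroup.centralizer (P : Set G)) (x := ⟨g ^ 5, hu⟩)
      rw [hC] at this
      exact congrArg Subtype.val this)
    have huK : (g ^ 5) ^ 11 ∈ K := (hK _).2 ⟨Subgroup.pow_mem _ hu 11, fun hd => by
      have := Nat.le_of_dvd (by norm_num) (hd.trans hord)
      omega⟩
    rw [show g ^ 55 = (g ^ 5) ^ 11 by rw [← pow_mul], Subgroup.mem_centralizer_singleton_iff]
    exact congrArg Subtype.val (hKcomm ⟨_, huK⟩ ⟨y, hyK⟩)
  -- two of four conjugates agree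
  let f : Fin 4 → {w : K // w ≠ 1} := fun i => ⟨⟨g ^ (i : ℕ) * y * (g ^ (i : ℕ))⁻¹,
    CfsgLib.Block.Cyclic.conj_mem_K hP hK (Subgroup.pow_mem _ hg _) ⟨y, hyK⟩⟩, fun e => by
      have e' := congrArg Subtype.val e
      simp only [Subgroup.coe_one, mul_inv_eq_one, mul_eq_left] at e'
      rw [e', orderOf_one] at hy
      norm_num at hy⟩
  obtain ⟨i, j, hij, hf⟩ : ∃ i j : Fin 4, i < j ∧ f i = f j := by
    obtain ⟨i, j, hne, hf⟩ : ∃ i j : Fin 4, i ≠ j ∧ f i = f j := by
      by_contra hno
      push Not at hno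
      have hle := Nat.card_le_card_of_injective f fun a b hab => by_contra fun hne => hno a b hne hab
      have h4 : Nat.card K ≤ 4 := Nat.le_of_dvd (by norm_num) hKc
      have := Finite.card_subtype_lt (p := fun w : K => w ≠ 1) (x := 1) (by simp)
      simp only [Nat.card_fin] at hle
      omega
    rcases lt_or_gt_of_ne hne with h | h
    · exact ⟨i, j, h, hf⟩
    · exact ⟨j, i, h, hf.symm⟩
  have hd : g ^ ((j : ℕ) - i) ∈ Subgroup.centralizer ({y} : Set G) := by
    have e := congrArg (fun w : {w : K // w ≠ 1} => ((w.1 : K) : G)) hf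
    simp only [f] at e
    rw [← Nat.sub_add_cancel (show (i : ℕ) ≤ j by omega), add_comm, pow_add] at e
    rw [Subgroup.mem_centralizer_singleton_iff]
    calc g ^ ((j : ℕ) - i) * y
        = (g ^ (i : ℕ))⁻¹ * (g ^ (i : ℕ) * g ^ ((j : ℕ) - i) * y * (g ^ (i : ℕ) * g ^ ((j : ℕ) - i))⁻¹) *
            g ^ (i : ℕ) * g ^ ((j : ℕ) - i) := by group
      _ = y * g ^ ((j : ℕ) - i) := by rw [← e]; group
  have hcop : Nat.gcd ((j : ℕ) - i) 55 = 1 := by
    have := j.2
    have h1 : (j : ℕ) - i = 1 ∨ (j : ℕ) - i = 2 ∨ (j : ℕ) - i = 3 := by omega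
    rcases h1 with h | h | h <;> rw [h] <;> decide
  have hz : g = (g ^ ((j : ℕ) - i)) ^ (Nat.gcdA ((j : ℕ) - i) 55) * (g ^ 55) ^ (Nat.gcdB ((j : ℕ) - i) 55) := by
    rw [← zpow_natCast, ← zpow_natCast, ← zpow_mul, ← zpow_mul, ← zpow_add, ← Nat.gcd_eq_gcd_ab, hcop]
    simp
  rw [hz]
  exact mul_mem (Subgroup.zpow_mem _ hd _) (Subgroup.zpow_mem _ h55 _)

end CfsgLib.Char.MTwelveGraph
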