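import Cfsg.Agent.Lib.Char.MTwelveGraph.Blocks
import Cfsg.Agent.Lib.Char.MTwelveGraph.Sylow144
import Cfsg.Agent.Lib.Char.DefectZero

/-!
# No simple group of order 15840 has a Sylow normalizer of order 110
-/

set_option autoImplicit false
set_option linter.all false

open Cfsg CfsgLib.Perm.PrimeBlock CfsgLib.Block Finset CfsgLib.Char.MEleven.Order CfsgLib.Char.MTwelveOrder

namespace CfsgLib.Char.MTwelveGraph

universe u

variable {G : Type u} [Group G] [Finite G]

theorem centT_spec : ∀ d < 141, d % 10 = 0 → 15840 % d = 0 → d ∈ centT := by decide +kernel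

theorem centT_le : ∀ d ∈ centT, d ≤ 120 := by decide

/-- The normalizer contains commuting elements of orders five and two, the latter inverting. -/
theorem exists_five_two {P : Subgroup G} (hP : Nat.card P = 11)
    (hC : Nat.card (Subgroup.centralizer (P : Set G)) = 11)
    (hN : Nat.card (Subgroup.normalizer (P : Set G)) = 110) :
    ∃ f t : G, orderOf f = 5 ∧ orderOf t = 2 ∧ Commute f t ∧ t ∈ Subgroup.normalizer (P : Set G) ∧
      ∀ x ∈ P, t * x * t⁻¹ = x⁻¹ := by
  classical
  haveI : Fact (Nat.Prime 11) := ⟨by norm_num⟩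
  haveI : Fact (Nat.Prime 5) := ⟨by norm_num⟩
  haveI : Fact (Nat.Prime 2) := ⟨Nat.prime_two⟩
  set N := Subgroup.normalizer (P : Set G) with hNd
  set C := Subgroup.centralizer (P : Set G) with hCd
  haveI hcyc : IsCyclic P := isCyclic_of_prime_card hP
  haveI : IsMulCommutative P := hcyc.isMulCommutative
  have hPC : (P : Subgroup G) = C := Subgroup.eq_of_le_of_card_ge (Subgroup.le_centralizer _) (by rw [hC, hP])
  let φ := Subgroup.normalizerMonoidHom P
  have hker : ∀ a : N, φ a = 1 → (a : G) ∈ C := fun a ha => by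
    have h : a ∈ φ.ker := ha
    rw [Subgroup.normalizerMonoidHom_ker, Subgroup.mem_subgroupOf] at h
    exact h
  have hcomm : ∀ a b : N, φ a * φ b = φ b * φ a := fun a b =>
    (IsCyclic.mulAutMulEquiv P).injective (by rw [map_mul, map_mul, mul_comm])
  have hord : ∀ (q : ℕ), q.Prime → q ≠ 11 → ∀ a : N, orderOf a = q → orderOf (φ a) = q := by
    intro q hq hq11 a ha
    haveI : Fact q.Prime := ⟨hq⟩
    refine orderOf_eq_prime (by rw [← map_pow, ← ha, pow_orderOf_eq_one, map_one]) fun h1 => ?_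
    have hd : orderOf (a : G) ∣ 11 := hC ▸ Subgroup.orderOf_dvd_natCard C (hker a h1)
    rw [Subgroup.orderOf_coe, ha] at hd
    exact hq11 ((Nat.prime_dvd_prime_iff_eq hq (by norm_num)).1 hd)
  obtain ⟨a, ha⟩ := exists_prime_orderOf_dvd_card' (G := N) 5 (by rw [hN]; norm_num)
  obtain ⟨b, hb⟩ := exists_prime_orderOf_dvd_card' (G := N) 2 (by rw [hN]; norm_num)
  have h10 : orderOf (φ (a * b)) = 10 := by
    rw [map_mul, (show Commute (φ a) (φ b) from hcomm a b).orderOf_mul_eq_mul_orderOf_of_coprime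
      (by rw [hord 5 (by norm_num) (by norm_num) a ha, hord 2 Nat.prime_two (by norm_num) b hb]; norm_num),
      hord 5 (by norm_num) (by norm_num) a ha, hord 2 Nat.prime_two (by norm_num) b hb]
  set g := a * b with hg
  have hg10 : g ^ 10 = 1 := by
    by_contra hne
    have hmem : ((g ^ 10 : N) : G) ∈ C := hker _ (by rw [map_pow, ← h10, pow_orderOf_eq_one])
    have h11 : orderOf ((g ^ 10 : N) : G) = 11 := by
      have := Subgroup.orderOf_dvd_natCard C hmem
      rw [hC] at this
      exact ((Nat.dvd_prime (by norm_num)).1 this).resolve_left fun h =>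
        hne (Subtype.ext (orderOf_eq_one_iff.1 h))
    have hgen : Subgroup.zpowers ((g ^ 10 : N) : G) = C :=
      Subgroup.eq_of_le_of_card_ge (Subgroup.zpowers_le.2 hmem) (by rw [hC, Nat.card_zpowers, h11])
    have hgC : (g : G) ∈ C := Subgroup.mem_centralizer_iff.2 fun x hx => by
      obtain ⟨k, hk⟩ := Subgroup.mem_zpowers_iff.1 (hgen.symm ▸ hPC ▸ hx : x ∈ Subgroup.zpowers ((g ^ 10 : N) : G))
      rw [← hk, Subgroup.coe_pow]
      exact (((Commute.refl (g : G)).pow_left 10).zpow_left k).eq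
    have h1 : φ g = 1 := by
      have : g ∈ φ.ker := by rw [Subgroup.normalizerMonoidHom_ker, Subgroup.mem_subgroupOf]; exact hgC
      exact this
    rw [h1, orderOf_one] at h10
    norm_num at h10
  have hgo : orderOf (g : G) = 10 := by
    rw [Subgroup.orderOf_coe]
    refine Nat.dvd_antisymm (orderOf_dvd_of_pow_eq_one hg10) ?_
    rw [← h10]
    exact orderOf_map_dvd φ g
  have hT2 : orderOf ((g : G) ^ 5) = 2 := by rw [orderOf_pow' _ (by norm_num), hgo]; rfl
  refine ⟨(g : G) ^ 2, (g : G) ^ 5, by rw [orderOf_pow' _ (by norm_num), hgo]; rfl, hT2,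
    Commute.pow_pow_self _ _ _, Subgroup.pow_mem _ g.2 5, fun x hx => ?_⟩
  set t := (g : G) ^ 5 with ht
  have htN : t ∈ N := Subgroup.pow_mem _ g.2 5
  have htC : t ∉ C := fun h => by
    have := Subgroup.orderOf_dvd_natCard C h
    rw [hT2, hC] at this
    norm_num at this
  have htt : t * t = 1 := by rw [← pow_two, ← hT2, pow_orderOf_eq_one]
  set y := t * x * t⁻¹ with hy
  have hyP : y ∈ P := (Subgroup.mem_normalizer_iff.1 htN x).1 hx
  have hti : t⁻¹ = t := inv_eq_of_mul_eq_one_left htt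
  have hyy : t * y * t⁻¹ = x := by
    rw [hy, hti]
    calc t * (t * x * t) * t = (t * t) * x * (t * t) := by simp only [mul_assoc]
      _ = x := by rw [htt, one_mul, mul_one]
  have hxy : x * y = y * x := congrArg Subtype.val (IsMulCommutative.is_comm.comm (⟨x, hx⟩ : P) ⟨y, hyP⟩)
  have hfix : t * (y * x) = (y * x) * t := by
    rw [← mul_inv_eq_iff_eq_mul]
    calc t * (y * x) * t⁻¹ = (t * y * t⁻¹) * (t * x * t⁻¹) := by group
      _ = y * x := by rw [hyy, ← hy, hxy]
  by_contra hne
  have hyx : y * x ≠ 1 := fun h => hne (eq_inv_of_mul_eq_one_left h)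
  have hgen : Subgroup.zpowers (y * x) = P := Subgroup.eq_of_le_of_card_ge
    (Subgroup.zpowers_le.2 (mul_mem hyP hx)) (by
      rw [hP, Nat.card_zpowers]
      have := Subgroup.orderOf_dvd_natCard P (mul_mem hyP hx)
      rw [hP] at this
      exact le_of_eq (((Nat.dvd_prime (by norm_num)).1 this).resolve_left fun h =>
        hyx (orderOf_eq_one_iff.1 h)).symm)
  refine htC (Subgroup.mem_centralizer_iff.2 fun z hz => ?_)
  obtain ⟨k, hk⟩ := Subgroup.mem_zpowers_iff.1 (hgen.symm ▸ hz : z ∈ Subgroup.zpowers (y * x))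
  rw [← hk]
  exact ((show Commute (y * x) t from hfix.symm).zpow_left k).eq

/-- An inverting involution fixes at most fourteen of 144 Sylow subgroups. -/
theorem card_fixed_le {P : Sylow 11 G} (hP : Nat.card (P : Subgroup G) = 11)
    (hn : Nat.card (Sylow 11 G) = 144) {t x : G} (hx : x ∈ (P : Subgroup G)) (hxo : orderOf x = 11)
    (ht : t ∈ Subgroup.normalizer ((P : Subgroup G) : Set G)) (htx : t * x * t⁻¹ = x⁻¹) :
    Nat.card {Q : Sylow 11 G // t • Q = Q} ≤ 14 := by
  classical
  haveI := Fintype.ofFinite G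
  haveI : Fact (Nat.Prime 11) := ⟨by norm_num⟩
  have hxN : x ∈ Subgroup.normalizer ((P : Subgroup G) : Set G) := Subgroup.le_normalizer hx
  have htP : t • P = P := Sylow.smul_eq_iff_mem_normalizer.2 ht
  have hxP : ∀ i : ℕ, x ^ i • P = P := fun i => Sylow.smul_eq_iff_mem_normalizer.2 (Subgroup.pow_mem _ hxN i)
  let F := {Q : Sylow 11 G // t • Q = Q ∧ Q ≠ P}
  have hlift : ∀ (Q : F) (i : ℕ), x ^ i • Q.1 ≠ P := fun Q i e => Q.2.2 (by
    have := congrArg ((x ^ i)⁻¹ • ·) e
    simp only [inv_smul_smul] at this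
    rw [this, inv_smul_eq_iff, hxP])
  let f : F × Fin 11 → {Q : Sylow 11 G // Q ≠ P} := fun q => ⟨x ^ (q.2 : ℕ) • q.1.1, hlift q.1 _⟩
  have hflip : ∀ n : ℕ, t * x ^ n = (x ^ n)⁻¹ * t := fun n => by
    rw [← mul_inv_eq_iff_eq_mul, ← conj_pow, htx, inv_pow]
  have hinj : Function.Injective f := by
    rintro ⟨Q, i⟩ ⟨Q', j⟩ e
    have e1 : x ^ (i : ℕ) • Q.1 = x ^ (j : ℕ) • Q'.1 := congrArg Subtype.val e
    have e2 := congrArg (t • ·) e1
    simp only [← mul_smul, hflip] at e2
    simp only [mul_smul, Q.2.1, Q'.2.1] at e2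
    have hQ' : Q'.1 = ((x ^ (j : ℕ))⁻¹ * x ^ (i : ℕ)) • Q.1 := by
      rw [mul_smul, e1, inv_smul_smul]
    have hQ2 : ((x ^ (i : ℕ))⁻¹ * x ^ (j : ℕ)) • Q'.1 = Q.1 := by
      rw [mul_smul, ← e1, inv_smul_smul]
    have hQ3 : (x ^ (j : ℕ) * (x ^ (i : ℕ))⁻¹) • Q.1 = Q'.1 := by
      rw [mul_smul, e2, smul_inv_smul]
    have hi : i = j := by
      by_contra hij
      have hfix : ((x ^ (i : ℕ))⁻¹ * x ^ (j : ℕ) * (x ^ (j : ℕ) * (x ^ (i : ℕ))⁻¹)) • Q.1 = Q.1 := by
        rw [mul_smul, hQ3, hQ2]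
      set w := (x ^ (i : ℕ))⁻¹ * x ^ (j : ℕ) * (x ^ (j : ℕ) * (x ^ (i : ℕ))⁻¹) with hw
      have hwz : w = x ^ (2 * ((j : ℤ) - (i : ℤ))) := by
        rw [hw, ← zpow_natCast x (i : ℕ), ← zpow_natCast x (j : ℕ), ← zpow_neg, ← zpow_add, ← zpow_add,
          ← zpow_add]
        congr 1
        ring
      have hw1 : w ≠ 1 := fun h1 => by
        rw [hwz, ← orderOf_dvd_iff_zpow_eq_one, hxo] at h1
        have h2 : ((11 : ℕ) : ℤ) ∣ (j : ℤ) - (i : ℤ) :=
          ((Nat.prime_iff_prime_int.1 (by norm_num : Nat.Prime 11)).dvd_or_dvd h1).resolve_left (by norm_num)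
        have h3 := Int.eq_zero_of_abs_lt_dvd h2 (by
          have := i.2; have := j.2
          rw [abs_lt]; constructor <;> push_cast <;> omega)
        exact hij (Fin.ext (by omega))
      have hwP : w ∈ (P : Subgroup G) :=
        mul_mem (mul_mem (inv_mem (pow_mem hx _)) (pow_mem hx _)) (mul_mem (pow_mem hx _) (inv_mem (pow_mem hx _)))
      have hgen : Subgroup.zpowers w = (P : Subgroup G) := Subgroup.eq_of_le_of_card_ge
        (Subgroup.zpowers_le.2 hwP) (by
          rw [hP, Nat.card_zpowers]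
          exact le_of_eq (CfsgLib.Char.MTwelveOrder.orderOf_mem hP hwP hw1).symm)
      have hPQ : (P : Subgroup G) ≤ Subgroup.normalizer ((Q.1 : Subgroup G) : Set G) := by
        rw [← hgen]
        exact Subgroup.zpowers_le.2 (Sylow.smul_eq_iff_mem_normalizer.1 hfix)
      have hw11 : (P : Subgroup G) ≤ (Q.1 : Subgroup G) := by
        exact inf_eq_left.1 ((P.2.inf_normalizer_sylow Q.1).symm.trans (inf_eq_left.2 hPQ))
      exact Q.2.2 (Sylow.ext (P.3 Q.1.2 hw11))
    subst hi
    simp only [inv_mul_cancel, one_smul] at hQ'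
    exact Prod.ext (Subtype.ext hQ'.symm) rfl
  have hle := Nat.card_le_card_of_injective f hinj
  have hP1 : Nat.card {Q : Sylow 11 G // Q ≠ P} < 144 := hn ▸ Finite.card_subtype_lt (x := P) (by simp)
  rw [Nat.card_prod, Nat.card_fin] at hle
  have hF : Nat.card {Q : Sylow 11 G // t • Q = Q} ≤ Nat.card (Option F) := by
    refine Nat.card_le_card_of_injective
      (fun Q => if h : Q.1 = P then none else some ⟨Q.1, Q.2, h⟩) fun Q R e => ?_
    simp only at e
    split_ifs at e with h1 h2
    · exact Subtype.ext (h1.trans h2.symm)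
    · exact Subtype.ext (congrArg (fun o : F => o.1) (Option.some.inj e))
  rw [Finite.card_option] at hF
  omega

/-- The centralizer of the inverting involution is small. -/
theorem card_cent_le {P : Sylow 11 G} (hP : Nat.card (P : Subgroup G) = 11)
    (hn : Nat.card (Sylow 11 G) = 144)
    (hN : Nat.card (Subgroup.normalizer ((P : Subgroup G) : Set G)) = 110) {t x : G}
    (hx : x ∈ (P : Subgroup G)) (hxo : orderOf x = 11) (hto : orderOf t = 2)
    (ht : t ∈ Subgroup.normalizer ((P : Subgroup G) : Set G)) (htx : t * x * t⁻¹ = x⁻¹) :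
    Nat.card (Subgroup.centralizer ({t} : Set G)) ≤ 140 := by
  classical
  haveI : Fact (Nat.Prime 11) := ⟨by norm_num⟩
  set C := Subgroup.centralizer ({t} : Set G) with hC
  have htP : t • P = P := Sylow.smul_eq_iff_mem_normalizer.2 ht
  have horb : Nat.card (MulAction.orbit C P) ≤ 14 := by
    refine le_trans (Nat.card_le_card_of_injective
      (fun Q => (⟨Q.1, ?_⟩ : {Q : Sylow 11 G // t • Q = Q})) fun Q R e =>
        Subtype.ext (congrArg (fun o : {Q : Sylow 11 G // t • Q = Q} => o.1) e))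
      (card_fixed_le hP hn hx hxo ht htx)
    obtain ⟨c, hc⟩ := Q.2
    simp only at hc
    rw [← hc, Subgroup.smul_def, ← mul_smul, ← Subgroup.mem_centralizer_singleton_iff.1 c.2, mul_smul, htP]
  have hstab : Nat.card (MulAction.stabilizer C P) ≤ 10 := by
    set H := C ⊓ Subgroup.normalizer ((P : Subgroup G) : Set G) with hH
    have hle : Nat.card (MulAction.stabilizer C P) ≤ Nat.card H :=
      Nat.card_le_card_of_injective (fun s => ⟨((s : C) : G), Subgroup.mem_inf.2
        ⟨(s : C).2, Sylow.smul_eq_iff_mem_normalizer.1 s.2⟩⟩) fun a b e =>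
          Subtype.ext (Subtype.ext (congrArg (fun o : H => (o : G)) e))
    have hd : Nat.card H ∣ 110 := hN ▸ Subgroup.card_dvd_of_le inf_le_right
    have h11 : ¬ 11 ∣ Nat.card H := fun h11 => by
      obtain ⟨w', hw'⟩ := exists_prime_orderOf_dvd_card' (G := H) 11 h11
      have hw : orderOf (w' : G) = 11 := by rw [Subgroup.orderOf_coe, hw']
      obtain ⟨hwC, hwN⟩ := Subgroup.mem_inf.1 w'.2
      have hle' : Subgroup.zpowers (w' : G) ≤ (P : Subgroup G) := by
        have hp : IsPGroup 11 (Subgroup.zpowers (w' : G)) :=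
          IsPGroup.of_card (n := 1) (by rw [Nat.card_zpowers, hw, pow_one])
        exact inf_eq_left.1 ((hp.inf_normalizer_sylow P).symm.trans
          (inf_eq_left.2 (Subgroup.zpowers_le.2 hwN)))
      have hgen := Subgroup.eq_of_le_of_card_ge hle' (by rw [hP, Nat.card_zpowers, hw])
      obtain ⟨k, hk⟩ := Subgroup.mem_zpowers_iff.1 (hgen.symm ▸ hx : x ∈ Subgroup.zpowers (w' : G))
      have hcx : Commute t x := hk ▸
        ((show Commute t (w' : G) from (Subgroup.mem_centralizer_singleton_iff.1 hwC).symm).zpow_right k)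
      rw [hcx.eq, mul_inv_cancel_right] at htx
      have hx2 : x ^ 2 = 1 := by rw [pow_two]; nth_rewrite 1 [htx]; exact inv_mul_cancel x
      have := orderOf_dvd_of_pow_eq_one hx2
      rw [hxo] at this
      norm_num at this
    have h10 : Nat.card H ∣ 10 := (Nat.Coprime.symm ((Nat.Prime.coprime_iff_not_dvd (by norm_num)).2 h11)).dvd_of_dvd_mul_left
      (hd.trans (by norm_num))
    exact hle.trans (Nat.le_of_dvd (by norm_num) h10)
  have hmul := Subgroup.card_mul_index (MulAction.stabilizer C P)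
  rw [MulAction.index_stabilizer, ← Nat.card_coe_set_eq] at hmul
  rw [← hmul]
  exact (Nat.mul_le_mul hstab horb).trans (by norm_num)

theorem valsFor_mono {d d' : ℕ} (h : d ≤ d') {s S : ℤ} (hS : S ∈ valsFor d s) : S ∈ valsFor d' s := by
  simp only [valsFor, List.mem_filter, Bool.and_eq_true, decide_eq_true_eq] at hS ⊢
  exact ⟨hS.1, lt_of_lt_of_le hS.2.1 (by exact_mod_cast h), hS.2.2⟩

theorem mem_valsFor_of_assigns {d : ℕ} : ∀ (l : List ℤ) (b : List (ℤ × ℤ)), b ∈ assigns d l →
    ∀ q ∈ b, q.2 ∈ valsFor d q.1 := by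
  intro l
  induction l with
  | nil => intro b hb q hq; simp [assigns] at hb; subst hb; simp at hq
  | cons s r ih =>
    intro b hb q hq
    simp only [assigns, List.mem_flatMap, List.mem_map] at hb
    obtain ⟨S', hS', b', hb', rfl⟩ := hb
    rcases List.mem_cons.1 hq with rfl | hq
    · exact hS'
    · exact ih b' hb' q hq

variable [Fintype G] [IsSimpleGroup G]

/-- No simple group of order 15840 has 144 Sylow 11-subgroups with automiser of order ten. -/
theorem false_1440_ten (hG : ¬ IsMulCommutative G) (hg : Nat.card G = 15840) {P : Sylow 11 G}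
    (hP : Nat.card (P : Subgroup G) = 11) (hn : Nat.card (Sylow 11 G) = 144)
    (hC : Nat.card (Subgroup.centralizer ((P : Subgroup G) : Set G)) = 11 * 1)
    (hN : Nat.card (Subgroup.normalizer ((P : Subgroup G) : Set G)) = 10 * (11 * 1)) : False := by
  classical
  haveI : Fact (Nat.Prime 11) := ⟨by norm_num⟩
  haveI : Fact (Nat.Prime 5) := ⟨by norm_num⟩
  obtain ⟨S, hout⟩ := exists_shape_out (fun χ hχ => by
      by_contra hne
      have h3 := degree_ge_three hG χ (fun h => hne (Subtype.ext h)) (d := 1)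
        (by rw [(charDegree_eq χ).1, hχ])
      omega) 11 (by norm_num) P hP 10 (relIndex_centralizer (by norm_num) hC hN) (by norm_num) (by norm_num)
  obtain ⟨f, t, hfo, hto, hft, htN, htx⟩ := exists_five_two hP (by rw [hC]) (by rw [hN])
  obtain ⟨x', hx'⟩ := exists_prime_orderOf_dvd_card' (G := (P : Subgroup G)) 11 (by rw [hP])
  have hxo : orderOf (x' : G) = 11 := by rw [Subgroup.orderOf_coe, hx']
  have hx1 : (x' : G) ≠ 1 := fun e => by rw [e, orderOf_one] at hxo; norm_num at hxo
  have htx' := htx _ x'.2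
  -- the centralizer of the involution
  set d := Nat.card (Subgroup.centralizer ({t} : Set G)) with hd
  have hdT : d ∈ centT := by
    refine centT_spec d (Nat.lt_succ_of_le (card_cent_le hP hn (by rw [hN]) x'.2 hxo hto htN htx')) ?_ ?_
    · refine Nat.mod_eq_zero_of_dvd ?_
      have h10 : orderOf (f * t) = 10 := by
        rw [hft.orderOf_mul_eq_mul_orderOf_of_coprime (by rw [hfo, hto]; norm_num), hfo, hto]
      exact h10 ▸ Subgroup.orderOf_dvd_natCard _
        (Subgroup.mem_centralizer_singleton_iff.2 ((hft.mul_left (Commute.refl t)).eq))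
    · exact Nat.mod_eq_zero_of_dvd (hg ▸ Subgroup.card_subgroup_dvd_card _)
  -- the class constant
  have hk : ∑ y ∈ regCent 11 (P : Subgroup G), CfsgLib.Char.classConst t t ((x' : G) * y) = 11 := by
    have hsq := exists_sq (by norm_num) P hP hC x'.2 hx1 hto
    have hle : (inverters t (x' : G)).card ≤ 11 := by
      rw [← Fintype.card_coe, ← Nat.card_eq_fintype_card]
      refine le_of_le_of_eq (Nat.card_le_card_of_injective (fun a => (⟨t⁻¹ * (a : G), ?_⟩ :
        Subgroup.centralizer ((P : Subgroup G) : Set G))) fun a b e =>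
          Subtype.ext (mul_left_cancel (congrArg Subtype.val e))) (by rw [hC])
      obtain ⟨-, hai⟩ := mem_inverters.1 a.2
      refine (CfsgLib.Block.Cyclic.mem_centralizer_iff_commute hP x'.2 hx1 _).2 ?_
      show t⁻¹ * (a : G) * x' = x' * (t⁻¹ * a)
      have h1 : (x' : G) * t⁻¹ = t⁻¹ * (x' : G)⁻¹ := by
        calc (x' : G) * t⁻¹ = t⁻¹ * (t * x' * t⁻¹) := by group
          _ = _ := by rw [htx']
      rw [← mul_assoc (x' : G), h1, mul_assoc, mul_assoc, ← mul_inv_eq_iff_eq_mul.1 hai]
    have hpos : 0 < (inverters t (x' : G)).card :=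
      Finset.card_pos.2 ⟨t, mem_inverters.2 ⟨IsConj.refl t, htx'⟩⟩
    have hd11 : 11 ∣ (inverters t (x' : G)).card :=
      ((Nat.Prime.dvd_mul (by norm_num)).1 ⟨_, hsq.symm⟩).elim id id
    have he : (inverters t (x' : G)).card = 11 := le_antisymm hle (Nat.le_of_dvd hpos hd11)
    rw [he] at hsq
    omega
  obtain ⟨X', hperm, hmem⟩ := exists_degList hG S hP (m := 1440) (B := 126) (by rw [hg]) (by norm_num)
    (by norm_num) hC (by norm_num) (by rw [hg]; norm_num)
  rw [hg] at hmem
  obtain ⟨hgood, hass⟩ := good_assign hG S hout (by norm_num) (by norm_num) (by norm_num) x'.2 hx1 hto hperm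
  rw [card_regCent P hP hC, hg, hk, ← hd] at hgood
  simp only [goodAssignK, Bool.and_eq_true, decide_eq_true_eq, beq_iff_eq] at hgood
  obtain ⟨⟨⟨-, -⟩, g3⟩, g4⟩ := hgood
  have hall := List.all_eq_true.1 allFailT_true _ hmem
  simp only [Bool.or_eq_true, decide_eq_true_eq] at hall
  rcases hall with hlt | hall
  · have hle := block_sum_sq_le S (by norm_num) (by norm_num) hperm
    rw [hg] at hle
    norm_num at hle hlt
    linarith
  set a := X'.map (fun χ => (sd S χ, sv S t χ)) with ha
  have hmemX : ∀ χ ∈ X', χ ∈ S.X := fun χ hχ => Finset.mem_toList.1 (hperm.mem_iff.1 hχ)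
  have hv : ∀ χ ∈ X', sv S t χ ∈ valsT 120 (sd S χ) := by
    intro χ hχ
    refine valsT_spec (valsFor_mono (centT_le d hdT)
      (mem_valsFor_of_assigns _ _ hass (sd S χ, sv S t χ) (by rw [ha]; exact List.mem_map_of_mem hχ))) fun h5 => ?_
    have h5' : 5 ∣ dg χ := by
      rw [← natAbs_sd S (hmemX χ hχ)]
      exact Int.natCast_dvd.1 h5
    have hvan : ∀ j : ℕ, ¬ 5 ∣ j → (χ : G → ℂ) (f ^ j * t) = ((0 : ℤ) : ℂ) := by
      intro j hj
      rw [Int.cast_zero]
      refine CfsgLib.Char.char_defect_zero_vanishes χ (p := 5) (n := 1) (d := dg χ) (by rw [hg]; norm_num) (by rw [hg]; norm_num)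
        (val_one χ) (by rwa [pow_one]) ?_
      have hfj : orderOf (f ^ j) = 5 := by
        refine orderOf_eq_prime (by rw [← pow_mul, mul_comm, pow_mul, ← hfo, pow_orderOf_eq_one, one_pow]) ?_
        exact fun h => hj (hfo ▸ orderOf_dvd_of_pow_eq_one h)
      rw [(hft.pow_left j).orderOf_mul_eq_mul_orderOf_of_coprime (by rw [hfj, hto]; norm_num), hfj]
      exact dvd_mul_right 5 _
    have hdv := dvd_value_sub (CfsgLib.Char.isCharacter_irr χ) (by norm_num : Nat.Prime 5) (by norm_num) hfo hto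
      hft hvan (val_invol hG χ hto)
    rw [sub_zero] at hdv
    exact Dvd.dvd.mul_left (by exact_mod_cast hdv) _
  have hd120 : (d : ℤ) ≤ 120 := by exact_mod_cast centT_le d hdT
  have hT0 : (0 : ℤ) ≤ (((11 - 1) / 10 : ℕ) : ℤ) *
      ((1 + (a.map Prod.snd).sum) * (1 + (a.map Prod.snd).sum)) :=
    mul_nonneg (Int.natCast_nonneg _) (mul_self_nonneg _)
  have hst := mem_statesT (sd S) (sv S t) 120 X' hv (by push_cast; linarith)
  have hf := List.all_eq_true.1 hall _ hst
  simp only [stateFailsT, List.all_eq_true, Bool.or_eq_true, decide_eq_true_eq, Bool.not_eq_true',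
    beq_eq_false_iff_ne, ne_eq] at hf
  rcases hf d hdT with h | h
  · norm_num at g3
    linarith
  · refine h ?_
    rw [show (List.map (sd S) X').prod = (fracSum a).2 by rw [fracSum_snd, ha, List.map_map]; rfl]
    have e1 : (1 : ℤ) + (List.map (sd S) X').sum = 1 + (a.map Prod.fst).sum := by
      rw [ha, List.map_map]; rfl
    rw [e1]
    push_cast at g4
    linear_combination g4

end CfsgLib.Char.MTwelveGraph
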